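import Groth.Agent.L18.GrMod.Chart
import Groth.Agent.L18.GenLocus

/-!
# Frames of `O(n)` on `Proj` of a graded ring
-/

set_option autoImplicit false
universe u

open CategoryTheory CategoryTheory.Limits AlgebraicGeometry TopologicalSpace Opposite
open Groth.L18.Frame (rs IsFrame)

noncomputable section

namespace Groth.L18.GrM

variable {A σ : Type u} [CommRing A] [SetLike σ A] [AddSubgroupClass σ A] {𝒜 : ℕ → σ} [GradedRing 𝒜]
variable {n : ℤ} {i j : ℕ} (a : 𝒜 i) (b : 𝒜 j) (hN : (i : ℤ) = j + n)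

/-- A fraction as a section of `O(n)`. -/
def genT (W : Opens (ProjectiveSpectrum.top 𝒜)) (hb : ∀ x : W, (b : A) ∉ x.1.asHomogeneousIdeal) :
    GrTwist.sectN (𝒜 := 𝒜) n (op W) :=
  ⟨fun x => ⟨Localization.mk (a : A) ⟨(b : A), hb x⟩, Submodule.subset_span ⟨i, j, a, b, hb x, hN, rfl⟩⟩,
    fun x => ⟨W, x.2, 𝟙 _, i, j, a, b, fun y => hb y, Or.inl hN, fun _ => rfl⟩⟩

theorem genT_val (W : Opens (ProjectiveSpectrum.top 𝒜)) (hb : ∀ x : W, (b : A) ∉ x.1.asHomogeneousIdeal) (x : W) :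
    (((genT a b hN W hb).1 x : GrTwist.twistAt 𝒜 n x.1) : GrTwist.Loc 𝒜 x.1) =
      Localization.mk (a : A) ⟨(b : A), hb x⟩ := rfl

/-- Sections of `O(n)` agree if their values agree. -/
theorem sectN_ext {U : (Opens (ProjectiveSpectrum.top 𝒜))ᵒᵖ} {s t : GrTwist.sectN (𝒜 := 𝒜) n U}
    (h : ∀ x : U.unop, ((s.1 x : GrTwist.twistAt 𝒜 n x.1) : GrTwist.Loc 𝒜 x.1) = (t.1 x).1) : s = t :=
  Subtype.ext (funext fun x => Subtype.ext (h x))

include hN in
/-- A fraction with invertible numerator and denominator is a frame. -/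
theorem isFrame_genT (W : Opens (ProjectiveSpectrum.top 𝒜)) (ha : ∀ x : W, (a : A) ∉ x.1.asHomogeneousIdeal)
    (hb : ∀ x : W, (b : A) ∉ x.1.asHomogeneousIdeal) :
    IsFrame (X := Proj 𝒜) (GrTwist.twist 𝒜 n) W (genT a b hN W hb) := by
  intro V hV
  let g : ∀ x : V, GrTwist.Loc 𝒜 x.1 := fun x => Localization.mk (a : A) ⟨(b : A), hb ⟨x.1, hV x.2⟩⟩
  let g' : ∀ x : V, GrTwist.Loc 𝒜 x.1 := fun x => Localization.mk (b : A) ⟨(a : A), ha ⟨x.1, hV x.2⟩⟩
  have hgg : ∀ x, g x * g' x = 1 := fun x => by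
    rw [Localization.mk_mul, ← Localization.mk_one, Localization.mk_eq_mk_iff, Localization.r_iff_exists]
    exact ⟨1, by simp only [Submonoid.coe_mul, OneMemClass.coe_one]; ring⟩
  refine ⟨fun r r' hrr => ?_, fun t => ?_⟩
  · refine Subtype.ext (funext fun x => HomogeneousLocalization.val_injective _ ?_)
    have h := congrArg (fun q : GrTwist.sectN (𝒜 := 𝒜) n (op V) => ((q.1 x : GrTwist.twistAt 𝒜 n x.1) : GrTwist.Loc 𝒜 x.1)) hrr
    have e : ∀ c : GrTwist.A0 𝒜 x.1, c.val = c.val * g x * g' x := fun c => by rw [mul_assoc, hgg, mul_one]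
    rw [e, e ((show GrTwist.O (op V) from r').1 x)]
    refine congrArg (· * g' x) ?_
    exact (GrTwist.coe_smul_val n x.1 _ _).symm.trans (h.trans (GrTwist.coe_smul_val n x.1 _ _))
  · let t' : GrTwist.sectN (𝒜 := 𝒜) n (op V) := t
    have hval : ∀ x : V, ∃ c : GrTwist.A0 𝒜 x.1, c.val = (t'.1 x).1 * g' x := by
      intro x
      obtain ⟨V', hxV', iV', i', j', m, s, nin, hdeg, hw⟩ := t'.2 x
      have e : (t'.1 x).1 = Localization.mk (m : A) ⟨(s : A), nin ⟨x.1, hxV'⟩⟩ := hw ⟨x.1, hxV'⟩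
      by_cases hm : (m : A) = 0
      · exact ⟨0, by rw [HomogeneousLocalization.val_zero, e, hm, Localization.mk_zero, zero_mul]⟩
      · have hd : i' + j = j' + i := by have := hdeg.resolve_right hm; omega
        refine ⟨HomogeneousLocalization.mk ⟨j' + i, ⟨(m : A) * (b : A), hd ▸ SetLike.mul_mem_graded m.2 b.2⟩,
          ⟨(s : A) * (a : A), SetLike.mul_mem_graded s.2 a.2⟩, notMem_mul (nin ⟨x.1, hxV'⟩) (ha ⟨x.1, hV x.2⟩)⟩, ?_⟩
        rw [HomogeneousLocalization.val_mk, e, Localization.mk_mul]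
        rfl
    choose c hc using hval
    refine ⟨(⟨c, fun x => ?_⟩ : GrTwist.O (𝒜 := 𝒜) (op V)), sectN_ext fun x => ?_⟩
    · obtain ⟨V', hxV', iV', i', j', m, s, nin, hdeg, hw⟩ := t'.2 x
      by_cases hm : (m : A) = 0
      · refine ⟨V', hxV', iV', 0, ⟨0, zero_mem _⟩, ⟨1, SetLike.GradedOne.one_mem⟩,
          fun y => fun h => y.1.isPrime.ne_top ((Ideal.eq_top_iff_one _).mpr h),
          fun y => HomogeneousLocalization.val_injective _ ?_⟩
        rw [hc, hw y, hm, HomogeneousLocalization.val_mk, Localization.mk_zero, zero_mul]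
        exact (Localization.mk_zero _).symm
      · have hd : i' + j = j' + i := by have := hdeg.resolve_right hm; omega
        refine ⟨V', hxV', iV', j' + i, ⟨(m : A) * (b : A), hd ▸ SetLike.mul_mem_graded m.2 b.2⟩,
          ⟨(s : A) * (a : A), SetLike.mul_mem_graded s.2 a.2⟩,
          fun y => notMem_mul (nin y) (ha ⟨y.1, hV (iV'.le y.2)⟩),
          fun y => HomogeneousLocalization.val_injective _ ?_⟩
        rw [hc, hw y, HomogeneousLocalization.val_mk, Localization.mk_mul]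
        rfl
    · refine (GrTwist.coe_smul_val n x.1 (c x) _).trans ?_
      change (c x).val * g x = _
      rw [hc, mul_assoc, mul_comm (g' x), hgg, mul_one]

end Groth.L18.GrM
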