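import Groth.Agent.L18.GrMod.Chart
import Groth.Agent.L00.LocalData
import Groth.Agent.L21.Extend.Gen

/-!
# Sections of `M(n)~` over `D₊(f)`; quasi-coherence of `M(n)~` (gradings by additive subgroups)
-/

set_option autoImplicit false
universe u

open CategoryTheory AlgebraicGeometry TopologicalSpace Opposite

noncomputable section

namespace Groth.L18.GrM

variable {A σ : Type u} [CommRing A] [SetLike σ A] [AddSubgroupClass σ A] {𝒜 : ℕ → σ} [GradedRing 𝒜]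
variable {M τ : Type u} [AddCommGroup M] [Module A M] [SetLike τ M] [AddSubgroupClass τ M]
  {ℳ : ℕ → τ} [DirectSum.Decomposition ℳ] [SetLike.GradedSMul 𝒜 ℳ] {n : ℤ} {d : ℕ}

lemma proj_of_mem {i : ℕ} {a : A} (ha : a ∈ 𝒜 i) : GradedRing.proj 𝒜 i a = a := by
  rw [GradedRing.proj_apply, DirectSum.decompose_of_mem_same 𝒜 ha]

lemma proj_of_mem_ne {i j : ℕ} {a : A} (ha : a ∈ 𝒜 i) (h : i ≠ j) : GradedRing.proj 𝒜 j a = 0 := by
  rw [GradedRing.proj_apply, DirectSum.decompose_of_mem_ne 𝒜 ha h]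

theorem decompose_smul_of_mem {m : M} {e : ℕ} (hm : m ∈ ℳ e) (c : A) (n : ℕ) :
    (DirectSum.decompose ℳ (c • m) n : M) =
      if e ≤ n then GradedRing.proj 𝒜 (n - e) c • m else 0 := by
  induction c using DirectSum.Decomposition.inductionOn 𝒜 with
  | zero => simp
  | homogeneous x =>
    rename_i i
    have h : (x : A) • m ∈ ℳ (i + e) := SetLike.GradedSMul.smul_mem x.2 hm
    rcases eq_or_ne (i + e) n with rfl | hne
    · rw [DirectSum.decompose_of_mem_same ℳ h, if_pos (Nat.le_add_left _ _), Nat.add_sub_cancel,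
        proj_of_mem x.2]
    · rw [DirectSum.decompose_of_mem_ne ℳ h hne]
      split
      · rw [proj_of_mem_ne x.2 (by omega), zero_smul]
      · rfl
  | add a b ha hb =>
    rw [add_smul, DirectSum.decompose_add, DirectSum.add_apply, AddMemClass.coe_add, ha, hb]
    split <;> simp [add_smul]

/-- Components of a multiple by a homogeneous scalar. -/
lemma decompose_smul_add {e : ℕ} {H : A} (hH : H ∈ 𝒜 e) (z : M) (i : ℕ) :
    (DirectSum.decompose ℳ (H • z) (e + i) : M) = H • (DirectSum.decompose ℳ z i : M) := by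
  induction z using DirectSum.Decomposition.inductionOn ℳ with
  | zero => simp
  | homogeneous x =>
    rename_i j
    rw [decompose_smul_of_mem (𝒜 := 𝒜) (ℳ := ℳ) x.2]
    rcases eq_or_ne j i with rfl | hne
    · rw [if_pos (Nat.le_add_left _ _), Nat.add_sub_cancel, proj_of_mem hH,
        DirectSum.decompose_of_mem_same ℳ x.2]
    · rw [DirectSum.decompose_of_mem_ne ℳ x.2 hne, smul_zero]
      split
      · rw [proj_of_mem_ne hH (by omega), zero_smul]
      · rfl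
  | add a b ha hb =>
    simp only [smul_add, DirectSum.decompose_add, DirectSum.add_apply, AddMemClass.coe_add, ha, hb]

/-- A homogeneous element vanishing in all stalks over `D₊(f)` is killed by a power of `f`. -/
theorem exists_pow_smul_eq_zero {e : ℕ} (hd : 0 < d) {Q : M} (hQ : Q ∈ ℳ e) {f : A} (hf : f ∈ 𝒜 d)
    (h : ∀ x : ProjectiveSpectrum 𝒜, f ∉ x.asHomogeneousIdeal →
      ∃ c, c ∉ x.asHomogeneousIdeal ∧ c • Q = 0) :
    ∃ k : ℕ, f ^ k • Q = 0 := by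
  let I : Ideal A := (Submodule.span A {Q}).annihilator
  have memI : ∀ a : A, a ∈ I ↔ a • Q = 0 := fun a => Submodule.mem_annihilator_span_singleton Q a
  have hI : I.IsHomogeneous 𝒜 := by
    intro k a ha
    rw [memI] at ha ⊢
    have := decompose_smul_of_mem (𝒜 := 𝒜) (ℳ := ℳ) hQ a (k + e)
    rw [ha, if_pos (Nat.le_add_left _ _), Nat.add_sub_cancel, GradedRing.proj_apply] at this
    simpa using this.symm
  have hfI : f ∈ I.radical := by
    rw [hI.radical_eq, Submodule.mem_sInf]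
    rintro J ⟨hJ, hIJ, hJp⟩
    by_contra hfJ
    let x : ProjectiveSpectrum 𝒜 := ⟨⟨J, hJ⟩, hJp, fun hle => hfJ (hle ((HomogeneousIdeal.mem_irrelevant_iff _ _).2
      (by rw [GradedRing.proj_apply, DirectSum.decompose_of_mem_ne 𝒜 hf hd.ne'])))⟩
    obtain ⟨c, hc, hcQ⟩ := h x hfJ
    exact hc (hIJ ((memI c).2 hcQ))
  obtain ⟨k, hk⟩ := hfI
  exact ⟨k, (memI _).1 hk⟩

/-- Equal fractions near `D₊(f)` have cross products equal up to a power of `f`. -/
theorem exists_pow_smul_eq_of_forall_mk_eq {e : ℕ} (hd : 0 < d) {f : A} (hf : f ∈ 𝒜 d) {a b : M} {s t : A}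
    (ha : t • a ∈ ℳ e) (hb : s • b ∈ ℳ e)
    (hs : ∀ x : ProjectiveSpectrum 𝒜, f ∉ x.asHomogeneousIdeal → s ∉ x.asHomogeneousIdeal)
    (ht : ∀ x : ProjectiveSpectrum 𝒜, f ∉ x.asHomogeneousIdeal → t ∉ x.asHomogeneousIdeal)
    (h : ∀ (x : ProjectiveSpectrum 𝒜) (hx : f ∉ x.asHomogeneousIdeal),
      (LocalizedModule.mk a ⟨s, hs x hx⟩ : GrMod.LocMod 𝒜 (M := M) x) = LocalizedModule.mk b ⟨t, ht x hx⟩) :
    ∃ k : ℕ, f ^ k • t • a = f ^ k • s • b := by
  obtain ⟨k, hk⟩ := exists_pow_smul_eq_zero hd (sub_mem ha hb) hf fun x hx => by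
    obtain ⟨c, hc⟩ := LocalizedModule.mk_eq.1 (h x hx)
    exact ⟨c.1, c.2, by rw [smul_sub, sub_eq_zero]; exact hc⟩
  exact ⟨k, sub_eq_zero.1 (by rw [← smul_sub]; exact hk)⟩

lemma sect_ext {U : (Opens (ProjectiveSpectrum.top 𝒜))ᵒᵖ} {s t : GrMod.sect 𝒜 ℳ n U}
    (h : ∀ x : U.unop, (s.1 x).1 = (t.1 x).1) : s = t :=
  Subtype.ext (funext fun x => Subtype.ext (h x))

/-- A fraction as a section. -/
def gen {i j : ℕ} (a : ℳ i) (b : 𝒜 j) (hN : (i : ℤ) = j + n) (W : Opens (ProjectiveSpectrum.top 𝒜))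
    (hb : ∀ x : W, b.1 ∉ x.1.asHomogeneousIdeal) : GrMod.sect 𝒜 ℳ n (op W) :=
  ⟨fun x => ⟨LocalizedModule.mk a.1 ⟨b.1, hb x⟩,
      (Submodule.subset_span ⟨i, j, a, b, hb x, hN, rfl⟩ :
        LocalizedModule.mk a.1 ⟨b.1, hb x⟩ ∈ GrMod.tildeAt 𝒜 ℳ n (show ProjectiveSpectrum 𝒜 from x.1))⟩,
   fun x => ⟨W, x.2, 𝟙 _, i, j, a, b, fun y => hb y, Or.inl hN, fun _ => rfl⟩⟩

/-- Sections over `D₊(h)` are fractions `a / h ^ K`. -/
theorem exists_eq_mk {h : A} (hd : 0 < d) (hh : h ∈ 𝒜 d) {U : Opens (ProjectiveSpectrum.top 𝒜)}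
    (hU : ∀ x, x ∈ U ↔ h ∉ x.asHomogeneousIdeal) (s : GrMod.sect 𝒜 ℳ n (op U)) :
    ∃ (K m : ℕ) (a : M), a ∈ ℳ m ∧ (m : ℤ) = (K * d : ℕ) + n ∧
      ∀ x : U, (s.1 x).1 = LocalizedModule.mk a ⟨h ^ K, notMem_pow ((hU x.1).1 x.2) K⟩ := by
  classical
  -- normalised local forms
  have loc : ∀ x : U, ∃ (H : A) (b : M) (e i : ℕ), H ∈ 𝒜 e ∧ b ∈ ℳ i ∧ (i : ℤ) = e + n ∧ 0 < e ∧
      H ∉ x.1.asHomogeneousIdeal ∧ (∀ y : ProjectiveSpectrum 𝒜, H ∉ y.asHomogeneousIdeal →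
        ∃ (hy : y ∈ U) (hH : H ∉ y.asHomogeneousIdeal), (s.1 ⟨y, hy⟩).1 = LocalizedModule.mk b ⟨H, hH⟩) := by
    intro x
    obtain ⟨V, hxV, iV, i, j, a, t, nin, hdeg, hw⟩ := s.2 x
    obtain ⟨_, ⟨g, rfl⟩, hxg, hgV⟩ :=
      (ProjectiveSpectrum.isTopologicalBasis_basic_opens 𝒜).exists_subset_of_mem_open hxV V.2
    obtain ⟨k, hgk⟩ : ∃ k, GradedRing.proj 𝒜 k g ∉ x.1.asHomogeneousIdeal := by
      by_contra hc
      push Not at hc
      exact (ProjectiveSpectrum.mem_basicOpen 𝒜 g x.1).1 hxg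
        (by rw [← DirectSum.sum_support_decompose 𝒜 g]; exact Ideal.sum_mem _ fun l _ => hc l)
    have hgV' : ∀ y : ProjectiveSpectrum 𝒜, GradedRing.proj 𝒜 k g ∉ y.asHomogeneousIdeal → y ∈ V := by
      intro y hy
      refine hgV ((ProjectiveSpectrum.mem_basicOpen 𝒜 g y).2 fun hg => hy ?_)
      exact y.asHomogeneousIdeal.isHomogeneous k hg
    let g' := GradedRing.proj 𝒜 k g
    have hg' : g' ∈ 𝒜 k := SetLike.coe_mem _
    have hxh : h ∉ x.1.asHomogeneousIdeal := (hU x.1).1 x.2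
    have split : ∀ {y : ProjectiveSpectrum 𝒜} {p q : A}, p * q ∉ y.asHomogeneousIdeal →
        p ∉ y.asHomogeneousIdeal ∧ q ∉ y.asHomogeneousIdeal := fun {y p q} hpq =>
      ⟨fun hp => hpq (y.asHomogeneousIdeal.toIdeal.mul_mem_right _ hp),
        fun hq => hpq (y.asHomogeneousIdeal.toIdeal.mul_mem_left _ hq)⟩
    have hE : t.1 * (g' * h) ∈ 𝒜 (j + (k + d)) :=
      SetLike.mul_mem_graded t.2 (SetLike.mul_mem_graded hg' hh)
    have hxE : t.1 * (g' * h) ∉ x.1.asHomogeneousIdeal :=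
      notMem_mul (nin ⟨x.1, hxV⟩) (notMem_mul hgk hxh)
    by_cases ha : a.1 = 0
    · obtain ⟨P, hP, hPn⟩ := exists_pow_degree (d := j + (k + d)) (by omega) n
      refine ⟨(t.1 * (g' * h)) ^ P, 0, P * (j + (k + d)),
        (((P * (j + (k + d)) : ℕ) : ℤ) + n).toNat,
        by simpa using SetLike.pow_mem_graded P hE, zero_mem _, Int.toNat_of_nonneg hPn,
        Nat.mul_pos hP (by omega), notMem_pow hxE P, fun y hy => ?_⟩
      have hy0 : t.1 * (g' * h) ∉ y.asHomogeneousIdeal := fun he =>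
        hy (y.asHomogeneousIdeal.toIdeal.pow_mem_of_mem he P hP)
      have hyV : y ∈ V := hgV' y (split (split hy0).2).1
      refine ⟨(iV ⟨y, hyV⟩).2, hy, (hw ⟨y, hyV⟩).trans ?_⟩
      rw [ha, LocalizedModule.zero_mk, LocalizedModule.zero_mk]
    · have hdeg' : (i : ℤ) = j + n := hdeg.resolve_right ha
      refine ⟨t.1 * (g' * h), (g' * h) • a.1, j + (k + d), (k + d) + i, hE,
        SetLike.GradedSMul.smul_mem (SetLike.mul_mem_graded hg' hh) a.2, by push_cast; omega, by omega, hxE,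
        fun y hy => ?_⟩
      have hyV : y ∈ V := hgV' y (split (split hy).2).1
      refine ⟨(iV ⟨y, hyV⟩).2, hy, (hw ⟨y, hyV⟩).trans ?_⟩
      rw [LocalizedModule.mk_eq]
      exact ⟨1, by simp only [one_smul, Submonoid.smul_def, smul_smul]⟩
  choose H b e i hH hb hdeg he hxH hval using loc
  -- finitely many of them
  have hcomp : IsCompact (U : Set (ProjectiveSpectrum.top 𝒜)) := by
    have : (U : Set (ProjectiveSpectrum.top 𝒜)) = (Proj.basicOpen 𝒜 h : Set (Proj 𝒜)) :=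
      Set.ext fun x => (hU x).trans (Proj.mem_basicOpen _ _ _).symm
    rw [this]
    exact (Proj.isAffineOpen_basicOpen 𝒜 h hh hd).isCompact
  obtain ⟨T, hT⟩ := hcomp.elim_finite_subcover
    (fun x : U => SetLike.coe (A := Opens (ProjectiveSpectrum.top 𝒜)) (ProjectiveSpectrum.basicOpen 𝒜 (H x)))
    (fun x => (ProjectiveSpectrum.basicOpen 𝒜 (H x)).2)
    (fun x hx => Set.mem_iUnion.2 ⟨⟨x, hx⟩, (ProjectiveSpectrum.mem_basicOpen 𝒜 _ _).2 (hxH ⟨x, hx⟩)⟩)
  -- exact cross equalities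
  have hex : ∃ M : ℕ, ∀ p q : T, (H p * H q) ^ M • H q • b p = (H p * H q) ^ M • H p • b q := by
    have hpq : ∀ p q : T, ∃ k : ℕ, (H p * H q) ^ k • H q • b p = (H p * H q) ^ k • H p • b q := by
      intro p q
      have hne : ∀ y : ProjectiveSpectrum 𝒜, H p * H q ∉ y.asHomogeneousIdeal →
          H p ∉ y.asHomogeneousIdeal ∧ H q ∉ y.asHomogeneousIdeal := fun y hy =>
        ⟨fun h' => hy (y.asHomogeneousIdeal.toIdeal.mul_mem_right _ h'),
          fun h' => hy (y.asHomogeneousIdeal.toIdeal.mul_mem_left _ h')⟩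
      refine exists_pow_smul_eq_of_forall_mk_eq (ℳ := ℳ) (d := e p + e q) (e := e q + i p)
        (Nat.add_pos_left (he p) _) (SetLike.mul_mem_graded (hH p) (hH q))
        (SetLike.GradedSMul.smul_mem (hH q) (hb p)) ?_ (fun y hy => (hne y hy).1) (fun y hy => (hne y hy).2)
        fun y hy => ?_
      · have h1 := hdeg p
        have h2 := hdeg q
        rw [show e q + i p = e p + i q by omega]
        exact SetLike.GradedSMul.smul_mem (hH p) (hb q)
      · obtain ⟨_, _, e1⟩ := hval p y (hne y hy).1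
        obtain ⟨_, _, e2⟩ := hval q y (hne y hy).2
        exact e1.symm.trans e2
    choose k hk using hpq
    refine ⟨Finset.univ.sup fun pq : T × T => k pq.1 pq.2, fun p q => ?_⟩
    obtain ⟨c, hc⟩ := Nat.exists_eq_add_of_le
      (Finset.le_sup (f := fun pq : T × T => k pq.1 pq.2) (Finset.mem_univ (p, q)))
    rw [hc, pow_add, mul_comm, mul_smul, mul_smul, hk p q]
  obtain ⟨N, hN⟩ := hex
  let H' : T → A := fun p => H p ^ (N + 1)
  let b' : T → M := fun p => H p ^ N • b p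
  have hcross : ∀ p q, H' q • b' p = H' p • b' q := fun p q => by
    have := hN p q
    simp only [smul_smul, b', H'] at this ⊢
    convert this using 2 <;> ring
  have hH' : ∀ p : T, H' p ∈ 𝒜 ((N + 1) • e p) := fun p => SetLike.pow_mem_graded _ (hH p)
  have hb' : ∀ p : T, b' p ∈ ℳ (N • e p + i p) := fun p =>
    SetLike.GradedSMul.smul_mem (SetLike.pow_mem_graded _ (hH p)) (hb p)
  have hcov : ∀ y : ProjectiveSpectrum 𝒜, h ∉ y.asHomogeneousIdeal → ∃ p : T, H' p ∉ y.asHomogeneousIdeal := by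
    intro y hy
    obtain ⟨p, hpT, hp⟩ := Set.mem_iUnion₂.1 (hT ((hU y).2 hy))
    exact ⟨⟨p, hpT⟩, notMem_pow ((ProjectiveSpectrum.mem_basicOpen 𝒜 _ _).1 hp) _⟩
  obtain ⟨K₀, hK₀⟩ := mem_radical_span 𝒜 H' _ hH' hd hh hcov
  obtain ⟨P, -, hPn⟩ := exists_pow_degree hd n
  let K := K₀ + P
  have hK : h ^ K ∈ Ideal.span (Set.range H') := by
    rw [pow_add]; exact Ideal.mul_mem_right _ _ hK₀
  obtain ⟨c, hc⟩ := Ideal.mem_span_range_iff_exists_fun.1 hK
  let m := (((K * d : ℕ) : ℤ) + n).toNat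
  have hm : (m : ℤ) = (K * d : ℕ) + n := Int.toNat_of_nonneg (by
    have : (P * d : ℕ) ≤ K * d := Nat.mul_le_mul_right _ (Nat.le_add_left _ _)
    have : ((P * d : ℕ) : ℤ) ≤ ((K * d : ℕ) : ℤ) := by exact_mod_cast this
    omega)
  let a : M := (DirectSum.decompose ℳ (∑ p, c p • b' p) m : ℳ m)
  have key : ∀ q, H' q • a = h ^ K • b' q := by
    intro q
    have e1 : H' q • (∑ p, c p • b' p) = h ^ K • b' q := by
      rw [← hc, Finset.sum_smul, Finset.smul_sum]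
      refine Finset.sum_congr rfl fun p _ => ?_
      rw [smul_comm, hcross p q, smul_smul]
    have hdegq : K • d + (N • e q + i q) = (N + 1) • e q + m := by
      have := hdeg q
      simp only [smul_eq_mul, add_mul, one_mul]
      omega
    calc H' q • a = ((DirectSum.decompose ℳ (H' q • (∑ p, c p • b' p)) ((N + 1) • e q + m) :
          ℳ ((N + 1) • e q + m)) : M) := (decompose_smul_add (hH' q) _ _).symm
      _ = h ^ K • b' q := by
        rw [e1]
        exact DirectSum.decompose_of_mem_same ℳ (hdegq ▸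
          SetLike.GradedSMul.smul_mem (SetLike.pow_mem_graded K hh) (hb' q))
  refine ⟨K, m, a, SetLike.coe_mem _, hm, fun x => ?_⟩
  obtain ⟨q, hq⟩ := hcov x.1 ((hU x.1).1 x.2)
  have hq' : H q ∉ x.1.asHomogeneousIdeal := fun h' =>
    hq (x.1.asHomogeneousIdeal.toIdeal.pow_mem_of_mem h' _ (Nat.succ_pos _))
  obtain ⟨_, _, e1⟩ := hval q x.1 hq'
  refine e1.trans ?_
  rw [LocalizedModule.mk_eq]
  refine ⟨⟨H q ^ N, notMem_pow hq' N⟩, ?_⟩
  have := key q
  simp only [b', H', Submonoid.smul_def, smul_smul] at this ⊢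
  rw [show H q ^ N * h ^ K = h ^ K * H q ^ N by ring]
  exact (this.symm.trans (by rw [pow_succ])).trans rfl

section Chart

variable {f : A} (hd : 0 < d) (hf : f ∈ 𝒜 d)

variable (n)

/-- `M(n)~` on a chart. -/
noncomputable abbrev chartMod : (Spec (.of (HomogeneousLocalization.Away 𝒜 f))).Modules :=
  (GrMod.tilde 𝒜 ℳ n).restrict (Proj.awayι 𝒜 f hf hd)

/-- The module structure on sections over an affine scheme. -/
noncomputable abbrev specModule {S : CommRingCat.{u}} (M : (Spec S).Modules) (U : (Spec S).Opens) :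
    Module S Γ(M, U) := inferInstance

noncomputable instance chartModule (U : (Spec (.of (HomogeneousLocalization.Away 𝒜 f))).Opens) :
    Module (HomogeneousLocalization.Away 𝒜 f) Γ(chartMod (ℳ := ℳ) n hd hf, U) :=
  specModule (S := .of (HomogeneousLocalization.Away 𝒜 f)) _ U

/-- A section on the chart, as a function. -/
noncomputable def toFun' {U : (Spec (.of (HomogeneousLocalization.Away 𝒜 f))).Opens}
    (s : Γ(chartMod (ℳ := ℳ) n hd hf, U)) :
    GrMod.sect 𝒜 ℳ n (op (Proj.awayι 𝒜 f hf hd ''ᵁ U)) := s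

set_option maxHeartbeats 800000 in
lemma smul_val {U : (Spec (.of (HomogeneousLocalization.Away 𝒜 f))).Opens} (k : ℕ) (a : A)
    (ha : a ∈ 𝒜 (k • d)) (s : Γ(chartMod (ℳ := ℳ) n hd hf, U))
    (x : (Proj.awayι 𝒜 f hf hd ''ᵁ U : Opens (ProjectiveSpectrum.top 𝒜))) :
    ((toFun' n hd hf (sc hf k a ha • s)).1 x).1 =
      (Localization.mk a ⟨f ^ k, notMem_pow
        ((Proj.mem_basicOpen _ _ _).1 (image_le hd hf U x.2)) k⟩ : GrTwist.Loc 𝒜 x.1) • ((toFun' n hd hf s).1 x).1 := by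
  have h1 : toFun' n hd hf (sc hf k a ha • s) =
      (show GrTwist.O (op (Proj.awayι 𝒜 f hf hd ''ᵁ U)) from (Proj 𝒜).presheaf.map
        (homOfLE (image_le hd hf U)).op (Proj.awayToSection 𝒜 f (HomogeneousLocalization.Away.mk 𝒜 hf k a ha))) •
        toFun' n hd hf s := by
    change (show GrTwist.O (op (Proj.awayι 𝒜 f hf hd ''ᵁ U)) from ((Proj.awayι 𝒜 f hf hd).appIso U).inv
      ((Spec (.of (HomogeneousLocalization.Away 𝒜 f))).presheaf.map U.leTop.op
        ((Scheme.ΓSpecIso (.of (HomogeneousLocalization.Away 𝒜 f))).inv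
          (HomogeneousLocalization.Away.mk 𝒜 hf k a ha)))) • toFun' n hd hf s = _
    rw [appIso_inv_scalar hd hf U]
  rw [h1]
  refine (GrMod.coe_smul_val n x.1 _ _).trans ?_
  refine congrArg (fun c : GrTwist.Loc 𝒜 x.1 => c • ((toFun' n hd hf s).1 x).1) ?_
  refine (ProjectiveSpectrum.Proj.awayToSection_apply 𝒜 f
    (HomogeneousLocalization.Away.mk 𝒜 hf k a ha) ⟨x.1, image_le hd hf U x.2⟩).trans ?_
  rw [HomogeneousLocalization.Away.val_mk, Localization.mk_eq_mk', IsLocalization.map_mk', Localization.mk_eq_mk']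
  rfl

theorem isLocalizing_chartMod : IsLocalizing (modulesSpecToSheaf.obj (chartMod (ℳ := ℳ) n hd hf)) := by
  intro g
  obtain ⟨k, a, ha, rfl⟩ := HomogeneousLocalization.Away.mk_surjective 𝒜 hf g
  let g : (CommRingCat.of (HomogeneousLocalization.Away 𝒜 f) : CommRingCat) := sc hf k a ha
  let D : (Spec (.of (HomogeneousLocalization.Away 𝒜 f))).Opens := PrimeSpectrum.basicOpen g
  have hfa : f * a ∈ 𝒜 (d + k • d) := SetLike.mul_mem_graded hf ha
  have hg : ∀ l : ℕ, a ^ l ∈ 𝒜 ((k * l) • d) := fun l => by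
    simpa [mul_comm, mul_left_comm, mul_assoc] using SetLike.pow_mem_graded l ha
  have hpow : ∀ l : ℕ, g ^ l = sc hf (k * l) (a ^ l) (hg l) := by
    intro l
    refine HomogeneousLocalization.val_injective _ ?_
    erw [HomogeneousLocalization.val_pow, HomogeneousLocalization.Away.val_mk,
      HomogeneousLocalization.Away.val_mk, Localization.mk_pow]
    congr 1
    exact Subtype.ext (pow_mul _ _ _).symm
  refine ⟨fun ⟨y, l, hl⟩ => ?_, fun s => ?_, fun {x y} hxy => ?_⟩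
  · subst hl
    rw [map_pow]
    exact ((chartMod (ℳ := ℳ) n hd hf).isUnit_algebraMap_end_of_le_basicOpen g le_rfl).pow l
  · let s' : GrMod.sect 𝒜 ℳ n (op (Proj.awayι 𝒜 f hf hd ''ᵁ D)) := s
    obtain ⟨K, m, b, hb, hm, hsb⟩ := exists_eq_mk (Nat.add_pos_left hd _) hfa
      (fun x => mem_image_basicOpen hd hf k a ha x) s'
    -- the global section `b / f^((1+k)K)`
    let W : Opens (ProjectiveSpectrum.top 𝒜) := Proj.awayι 𝒜 f hf hd ''ᵁ ⊤
    have hW : ∀ x : W, f ^ ((1 + k) * K) ∉ x.1.asHomogeneousIdeal := fun x =>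
      notMem_pow ((Proj.mem_basicOpen _ _ _).1 (image_le hd hf ⊤ x.2)) _
    let top : Γ(chartMod (ℳ := ℳ) n hd hf, ⊤) := gen (⟨b, hb⟩ : ℳ m)
      (⟨f ^ ((1 + k) * K), SetLike.pow_mem_graded _ hf⟩ : 𝒜 (((1 + k) * K) • d))
      (show (m : ℤ) = ((((1 + k) * K) • d : ℕ) : ℤ) + n by
        rw [hm]; simp only [smul_eq_mul]; push_cast; ring) W hW
    refine ⟨⟨top, ⟨g ^ K, K, rfl⟩⟩, ?_⟩
    refine sect_ext (n := n) fun x => ?_
    refine (congrArg (fun r : (CommRingCat.of (HomogeneousLocalization.Away 𝒜 f) : CommRingCat) =>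
      ((toFun' n hd hf (r • (show Γ(chartMod (ℳ := ℳ) n hd hf, D) from s))).1 x).1) (hpow K)).trans ?_
    refine (smul_val n hd hf _ _ _ _ x).trans ?_
    erw [hsb x]
    rw [LocalizedModule.mk_smul_mk]
    refine Eq.trans ?_ (rfl : LocalizedModule.mk b ⟨f ^ ((1 + k) * K), hW ⟨x.1, ?_⟩⟩ = _)
    · rw [LocalizedModule.mk_eq]
      refine ⟨1, ?_⟩
      simp only [one_smul, Submonoid.smul_def, Submonoid.coe_mul, smul_smul, mul_pow]
      congr 1
      ring
    · exact (Scheme.Hom.image_mono _ le_top) x.2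
  · have hdiff : ∀ z : Γ(chartMod (ℳ := ℳ) n hd hf, ⊤),
        (chartMod (ℳ := ℳ) n hd hf).presheaf.map (homOfLE (le_top : D ≤ ⊤)).op z = 0 → ∃ l : ℕ, g ^ l • z = 0 := by
      intro z hz
      let z' : GrMod.sect 𝒜 ℳ n (op (Proj.awayι 𝒜 f hf hd ''ᵁ ⊤)) := z
      obtain ⟨K, m, b, hb, hm, hzb⟩ := exists_eq_mk hd hf (U := Proj.awayι 𝒜 f hf hd ''ᵁ ⊤)
        (fun x => by
          change x ∈ Proj.awayι 𝒜 f hf hd ''ᵁ ⊤ ↔ _
          rw [Scheme.Hom.image_top_eq_opensRange, Proj.opensRange_awayι]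
          exact Proj.mem_basicOpen _ _ _) z'
      obtain ⟨l, hl⟩ := exists_pow_smul_eq_zero (Nat.add_pos_left hd _) hb hfa fun x hx => by
        have hxD : x ∈ (Proj.awayι 𝒜 f hf hd ''ᵁ D : Opens (ProjectiveSpectrum.top 𝒜)) :=
          (mem_image_basicOpen hd hf k a ha x).2 hx
        have h1 := congrArg (fun w : GrMod.sect 𝒜 ℳ n (op (Proj.awayι 𝒜 f hf hd ''ᵁ D)) =>
          (w.1 ⟨x, hxD⟩).1) hz
        have h2 : LocalizedModule.mk b _ = (0 : GrMod.LocMod 𝒜 (M := M) x) :=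
          (hzb ⟨x, Scheme.Hom.image_mono _ le_top hxD⟩).symm.trans h1
        rw [← LocalizedModule.zero_mk 1, LocalizedModule.mk_eq] at h2
        obtain ⟨c, hc⟩ := h2
        exact ⟨c.1, c.2, by simpa [Submonoid.smul_def] using hc⟩
      refine ⟨l, sect_ext (n := n) fun x => ?_⟩
      refine ((congrArg (fun r : (CommRingCat.of (HomogeneousLocalization.Away 𝒜 f) : CommRingCat) =>
        ((toFun' n hd hf (r • z)).1 x).1) (hpow l)).trans ?_ : _ = (0 : GrMod.LocMod 𝒜 (M := M) x.1))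
      refine (smul_val n hd hf _ _ _ _ x).trans ?_
      erw [hzb x]
      rw [LocalizedModule.mk_smul_mk, ← LocalizedModule.zero_mk 1, LocalizedModule.mk_eq]
      refine ⟨⟨f ^ l, notMem_pow ((Proj.mem_basicOpen _ _ _).1 (image_le hd hf ⊤ x.2)) l⟩, ?_⟩
      simp only [OneMemClass.coe_one, one_smul, smul_zero, Submonoid.smul_def, smul_smul]
      rw [← mul_pow, hl]
    obtain ⟨l, hl⟩ := hdiff ((show Γ(chartMod (ℳ := ℳ) n hd hf, ⊤) from x) - (show Γ(chartMod (ℳ := ℳ) n hd hf, ⊤) from y)) (by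
      rw [map_sub, sub_eq_zero]; exact hxy)
    exact ⟨⟨g ^ l, l, rfl⟩, sub_eq_zero.1 ((smul_sub _ _ _).symm.trans hl)⟩

end Chart

variable (𝒜 ℳ n) in
/-- `M(n)~` is quasi-coherent. -/
theorem isQCoh_tilde : Coh.IsQCoh (GrMod.tilde 𝒜 ℳ n) := by
  classical
  refine Groth.L00.Local.isQCoh_of_tilde_charts _ fun x => ?_
  obtain ⟨i, g, hi, hgx⟩ : ∃ (i : ℕ) (g : A), 0 < i ∧ GradedRing.proj 𝒜 i g ∉ x.asHomogeneousIdeal := by
    obtain ⟨g, hg, hgx⟩ := SetLike.not_le_iff_exists.1 x.not_irrelevant_le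
    by_contra hc
    push Not at hc
    refine hgx ?_
    rw [← DirectSum.sum_support_decompose 𝒜 g]
    refine Ideal.sum_mem _ fun i _ => ?_
    rcases Nat.eq_zero_or_pos i with rfl | hpos
    · rw [show ((DirectSum.decompose 𝒜 g 0 : 𝒜 0) : A) = 0 from (HomogeneousIdeal.mem_irrelevant_iff _ _).1 hg]
      exact zero_mem _
    · exact hc i g hpos
  let f := GradedRing.proj 𝒜 i g
  have hf : f ∈ 𝒜 i := SetLike.coe_mem _
  haveI := (isIso_fromTildeΓ_iff_isLocalizing (chartMod (ℳ := ℳ) n hi hf)).2 (isLocalizing_chartMod (ℳ := ℳ) n hi hf)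
  refine ⟨.of (HomogeneousLocalization.Away 𝒜 f), Proj.awayι 𝒜 f hf hi, inferInstance, _, ?_,
    ⟨(asIso (Scheme.Modules.fromTildeΓ (R := .of (HomogeneousLocalization.Away 𝒜 f)) (chartMod (ℳ := ℳ) n hi hf))).symm⟩⟩
  rw [Proj.opensRange_awayι]
  exact (Proj.mem_basicOpen _ _ _).2 hgx

section Basic

theorem exists_hom_pos (x : ProjectiveSpectrum 𝒜) :
    ∃ (i : ℕ) (g : A), 0 < i ∧ g ∈ 𝒜 i ∧ g ∉ x.asHomogeneousIdeal := by
  classical
  obtain ⟨g, hg, hgx⟩ := SetLike.not_le_iff_exists.1 x.not_irrelevant_le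
  by_contra hc
  push Not at hc
  refine hgx ?_
  rw [← DirectSum.sum_support_decompose 𝒜 g]
  refine Ideal.sum_mem _ fun i _ => ?_
  rcases Nat.eq_zero_or_pos i with rfl | hpos
  · rw [show ((DirectSum.decompose 𝒜 g 0 : 𝒜 0) : A) = 0 from (HomogeneousIdeal.mem_irrelevant_iff _ _).1 hg]
    exact zero_mem _
  · exact hc i _ hpos (SetLike.coe_mem _)

theorem exists_hom_notMem {x : ProjectiveSpectrum 𝒜} {c : A} (hc : c ∉ x.asHomogeneousIdeal) :
    ∃ k : ℕ, GradedRing.proj 𝒜 k c ∉ x.asHomogeneousIdeal := by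
  classical
  by_contra hne
  push Not at hne
  exact hc (by rw [← DirectSum.sum_support_decompose 𝒜 c]; exact Ideal.sum_mem _ fun l _ => hne l)

/-- Membership in a degree part of `M_x` is being a fraction. -/
theorem exists_fraction {x : ProjectiveSpectrum 𝒜} {q : GrMod.LocMod 𝒜 (M := M) x}
    (hq : q ∈ GrMod.tildeAt 𝒜 ℳ n x) :
    q = 0 ∨ ∃ (i j : ℕ) (a : ℳ i) (b : 𝒜 j) (hb : b.1 ∉ x.asHomogeneousIdeal),
      (i : ℤ) = j + n ∧ q = LocalizedModule.mk a.1 ⟨b.1, hb⟩ := by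
  induction hq using Submodule.span_induction with
  | mem q hq => exact Or.inr hq
  | zero => exact Or.inl rfl
  | add p q _ _ hp hq =>
    rcases hp with rfl | ⟨i, j, a, b, hb, hij, rfl⟩
    · rw [zero_add]; exact hq
    rcases hq with rfl | ⟨i', j', a', b', hb', hij', rfl⟩
    · rw [add_zero]; exact Or.inr ⟨i, j, a, b, hb, hij, rfl⟩
    refine Or.inr ⟨j' + i, j + j', ⟨b'.1 • a.1 + b.1 • a'.1, ?_⟩, ⟨b.1 * b'.1, SetLike.mul_mem_graded b.2 b'.2⟩,
      notMem_mul hb hb', by push_cast; omega, ?_⟩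
    · exact add_mem (SetLike.GradedSMul.smul_mem b'.2 a.2)
        ((show j + i' = j' + i by omega) ▸ SetLike.GradedSMul.smul_mem b.2 a'.2)
    · rw [LocalizedModule.mk_add_mk]; rfl
  | smul c q _ hq =>
    rcases hq with rfl | ⟨i, j, a, b, hb, hij, rfl⟩
    · exact Or.inl (smul_zero _)
    obtain ⟨⟨k, ⟨r, hr⟩, ⟨t, ht⟩, htx⟩, rfl⟩ := c.mk_surjective
    refine Or.inr ⟨k + i, k + j, ⟨r • a.1, SetLike.GradedSMul.smul_mem hr a.2⟩, ⟨t * b.1, SetLike.mul_mem_graded ht b.2⟩,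
      notMem_mul htx hb, by push_cast; omega, ?_⟩
    rw [GrMod.a0_smul_def, HomogeneousLocalization.val_mk, LocalizedModule.mk_smul_mk]
    rfl

theorem stalkToFiber_bijective (p : ProjectiveSpectrum.top 𝒜) :
    Function.Bijective (TopCat.stalkToFiber (GrMod.isLocFrac 𝒜 ℳ n) p) := by
  refine ⟨TopCat.stalkToFiber_injective (GrMod.isLocFrac 𝒜 ℳ n) p ?_,
    TopCat.stalkToFiber_surjective (GrMod.isLocFrac 𝒜 ℳ n) p ?_⟩
  · intro U V fU hU fV hV hval
    obtain ⟨U', hpU', iU, i, j, a, s, hs, -, hwU⟩ := hU ⟨p, U.2⟩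
    obtain ⟨V', hpV', iV, i', j', b, t, ht, -, hwV⟩ := hV ⟨p, V.2⟩
    have h1 := ((hwU ⟨p, hpU'⟩).symm.trans (congrArg Subtype.val hval)).trans (hwV ⟨p, hpV'⟩)
    obtain ⟨c, hc⟩ := LocalizedModule.mk_eq.1 h1
    let B : Opens (ProjectiveSpectrum.top 𝒜) := ProjectiveSpectrum.basicOpen 𝒜 c.1
    have hpB : p ∈ B := (ProjectiveSpectrum.mem_basicOpen 𝒜 _ _).2 c.2
    refine ⟨⟨U' ⊓ V' ⊓ B, ⟨⟨hpU', hpV'⟩, hpB⟩⟩, homOfLE (inf_le_left.trans (inf_le_left.trans iU.le)),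
      homOfLE (inf_le_left.trans (inf_le_right.trans iV.le)), fun w => Subtype.ext ?_⟩
    refine (hwU ⟨w.1, w.2.1.1⟩).trans (Eq.trans ?_ (hwV ⟨w.1, w.2.1.2⟩).symm)
    rw [LocalizedModule.mk_eq]
    exact ⟨⟨c.1, (ProjectiveSpectrum.mem_basicOpen 𝒜 _ _).1 w.2.2⟩, hc⟩
  · rintro ⟨q, hq⟩
    rcases exists_fraction hq with rfl | ⟨i, j, a, b, hb, hij, rfl⟩
    · exact ⟨⟨⊤, trivial⟩, fun _ => 0, GrMod.zero_mem' n (op ⊤), rfl⟩
    · let W : Opens (ProjectiveSpectrum.top 𝒜) := ProjectiveSpectrum.basicOpen 𝒜 b.1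
      let g := gen a b hij W fun y => (ProjectiveSpectrum.mem_basicOpen 𝒜 _ _).1 y.2
      exact ⟨⟨W, (ProjectiveSpectrum.mem_basicOpen 𝒜 _ _).2 hb⟩, g.1, g.2, Subtype.ext rfl⟩

theorem mk_eq_zero_iff {x : ProjectiveSpectrum 𝒜} {a : M} {s : A} (hs : s ∉ x.asHomogeneousIdeal) :
    (LocalizedModule.mk a ⟨s, hs⟩ : GrMod.LocMod 𝒜 (M := M) x) = 0 ↔ ∃ c, c ∉ x.asHomogeneousIdeal ∧ c • a = 0 := by
  rw [← LocalizedModule.zero_mk 1, LocalizedModule.mk_eq]
  constructor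
  · rintro ⟨c, hc⟩
    exact ⟨c.1, c.2, by simpa [Submonoid.smul_def] using hc⟩
  · rintro ⟨c, hc, h⟩
    exact ⟨⟨c, hc⟩, by simpa [Submonoid.smul_def] using h⟩

theorem pow_smul_eq_zero (hd : 0 < d) {f : A} (hf : f ∈ 𝒜 d) (k : ℕ) {i : ℕ} (m : ℳ i)
    (h : ∀ x : ProjectiveSpectrum.basicOpen 𝒜 f, ∀ hx : f ^ k ∉ x.1.asHomogeneousIdeal,
      (LocalizedModule.mk m.1 ⟨f ^ k, hx⟩ : GrMod.LocMod 𝒜 (M := M) x.1) = 0) :
    ∃ N : ℕ, f ^ N • m.1 = 0 :=
  exists_pow_smul_eq_zero hd m.2 hf fun x hx =>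
    (mk_eq_zero_iff _).1 (h ⟨x, (ProjectiveSpectrum.mem_basicOpen 𝒜 _ _).2 hx⟩ (notMem_pow hx k))

open Limits in
theorem isZero_of_nilpotent (h : ∀ (z : M) (d : ℕ) (f : A), 0 < d → f ∈ 𝒜 d → ∃ k : ℕ, f ^ k • z = 0) :
    IsZero (GrMod.tilde 𝒜 ℳ n) := by
  have hz : ∀ (U : (Opens (ProjectiveSpectrum.top 𝒜))ᵒᵖ) (s : GrMod.sect 𝒜 ℳ n U), s = 0 := fun U s => by
    refine sect_ext fun x => ?_
    obtain ⟨V, hxV, iV, i, j, a, t, hnin, -, hw⟩ := s.2 x
    obtain ⟨i', g, hi', hg, hgx⟩ := exists_hom_pos (x.1 : ProjectiveSpectrum 𝒜)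
    obtain ⟨k, hk⟩ := h a.1 i' g hi' hg
    exact (hw ⟨x.1, hxV⟩).trans ((mk_eq_zero_iff _).2 ⟨g ^ k, notMem_pow hgx k, hk⟩)
  rw [IsZero.iff_id_eq_zero]
  refine Scheme.Modules.hom_ext _ _ fun U => ?_
  ext s
  exact hz (op U) s

open Limits in
theorem section_eq_zero_of_isZero (h : IsZero (GrMod.tilde 𝒜 ℳ n)) {U : Opens (ProjectiveSpectrum.top 𝒜)}
    (s : GrMod.sect 𝒜 ℳ n (op U)) : s = 0 :=
  congr(($((IsZero.iff_id_eq_zero _).1 h)).app U s)

open Limits in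
theorem irrelevant_le_radical (hgen : (HomogeneousIdeal.irrelevant 𝒜).toIdeal = Ideal.span (𝒜 1 : Set A))
    (h : IsZero (GrMod.tilde 𝒜 ℳ 0)) (z : M) :
    (HomogeneousIdeal.irrelevant 𝒜).toIdeal ≤ (Submodule.span A {z}).annihilator.radical := by
  classical
  rw [hgen, Ideal.span_le]
  intro t ht
  have key : ∀ (e : ℕ) (m : ℳ e), ∃ N : ℕ, t ^ N • m.1 = 0 := by
    intro e m
    let W : Opens (ProjectiveSpectrum.top 𝒜) := ProjectiveSpectrum.basicOpen 𝒜 t
    let g := gen (n := 0) m (⟨t ^ e, by simpa using SetLike.pow_mem_graded e ht⟩ : 𝒜 e) (by simp) W fun y =>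
      notMem_pow ((ProjectiveSpectrum.mem_basicOpen 𝒜 _ _).1 y.2) e
    refine pow_smul_eq_zero one_pos ht e m fun x hx => ?_
    exact congrArg (fun w : GrMod.sect 𝒜 ℳ 0 (op W) => (w.1 x).1) (section_eq_zero_of_isZero h g)
  choose N hN using fun e => key e (DirectSum.decompose ℳ z e)
  refine ⟨(DirectSum.decompose ℳ z).support.sup N, (Submodule.mem_annihilator_span_singleton _ _).2 ?_⟩
  conv_lhs => arg 2; rw [← DirectSum.sum_support_decompose ℳ z]
  rw [Finset.smul_sum]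
  refine Finset.sum_eq_zero fun e he => ?_
  obtain ⟨c, hc⟩ := Nat.exists_eq_add_of_le (Finset.le_sup (f := N) he)
  rw [hc, pow_add, mul_comm, mul_smul, hN e, smul_zero]

theorem mem_pow_irrelevant (hgen : (HomogeneousIdeal.irrelevant 𝒜).toIdeal = Ideal.span (𝒜 1 : Set A)) :
    ∀ (j : ℕ) {a : A}, a ∈ 𝒜 j → a ∈ (HomogeneousIdeal.irrelevant 𝒜).toIdeal ^ j := by
  classical
  intro j
  induction j with
  | zero => intro a _; simp
  | succ j ih =>
    intro a ha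
    have hirr : a ∈ (HomogeneousIdeal.irrelevant 𝒜).toIdeal := (HomogeneousIdeal.mem_irrelevant_iff _ _).2
      (by rw [GradedRing.proj_apply, DirectSum.decompose_of_mem_ne 𝒜 ha (Nat.succ_ne_zero j)])
    rw [hgen] at hirr
    obtain ⟨c, hc⟩ := Finsupp.mem_span_iff_linearCombination _ _ _ |>.1 hirr
    rw [← DirectSum.decompose_of_mem_same 𝒜 ha, ← hc, Finsupp.linearCombination_apply, Finsupp.sum,
      DirectSum.decompose_sum, DFinsupp.finsetSum_apply, AddSubmonoidClass.coe_finsetSum]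
    refine Ideal.sum_mem _ fun t _ => ?_
    rw [smul_eq_mul, DirectSum.coe_decompose_mul_add_of_right_mem 𝒜 t.2, pow_succ]
    exact Ideal.mul_mem_mul (ih (SetLike.coe_mem _)) (hgen ▸ Ideal.subset_span t.2)

open Limits in
theorem isZero_iff_eventually_bot (hfg : (HomogeneousIdeal.irrelevant 𝒜).toIdeal.FG)
    (hgen : (HomogeneousIdeal.irrelevant 𝒜).toIdeal = Ideal.span (𝒜 1 : Set A))
    (hTF : ∃ n : ℕ, (Submodule.span A (⋃ k ∈ Set.Ici n, (ℳ k : Set M))).FG) :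
    IsZero (GrMod.tilde 𝒜 ℳ 0) ↔ ∃ n : ℕ, ∀ k : ℕ, n ≤ k → ∀ z ∈ ℳ k, z = (0 : M) := by
  classical
  constructor
  · intro h
    obtain ⟨n₀, hn₀⟩ := hTF
    obtain ⟨G, hG, hspan⟩ := (Submodule.fg_span_iff_fg_span_finset_subset _).1 hn₀
    choose e he hge using fun g (hg : g ∈ G) => Set.mem_iUnion₂.1 (hG hg)
    obtain ⟨N, hN⟩ : ∃ N : ℕ, ∀ g ∈ G, (HomogeneousIdeal.irrelevant 𝒜).toIdeal ^ N ≤ (Submodule.span A {g}).annihilator := by
      choose N hN using fun g : M => Ideal.exists_pow_le_of_le_radical_of_fg (irrelevant_le_radical hgen h g) hfg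
      exact ⟨G.sup N, fun g hg => (Ideal.pow_le_pow_right (Finset.le_sup hg)).trans (hN g)⟩
    refine ⟨n₀ + N + G.attach.sup (fun g => e g.1 g.2), fun k hk z hz => ?_⟩
    have hzs : z ∈ Submodule.span A (G : Set M) :=
      hspan ▸ Submodule.subset_span (Set.mem_iUnion₂.2 ⟨k, show n₀ ≤ k by omega, hz⟩)
    obtain ⟨c, -, hc⟩ := Submodule.mem_span_finset.1 hzs
    show z = 0
    rw [← DirectSum.decompose_of_mem_same ℳ hz, ← hc, DirectSum.decompose_sum, DFinsupp.finsetSum_apply,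
      AddSubmonoidClass.coe_finsetSum]
    refine Finset.sum_eq_zero fun g hg => ?_
    have heg : e g hg ≤ k - N := by
      have := Finset.le_sup (f := fun g : G => e g.1 g.2) (Finset.mem_attach _ ⟨g, hg⟩)
      simp only at this
      omega
    rw [decompose_smul_of_mem (𝒜 := 𝒜) (ℳ := ℳ) (hge g hg), if_pos (by omega)]
    refine (Submodule.mem_annihilator_span_singleton _ _).1 (hN g hg ?_)
    exact Ideal.pow_le_pow_right (show N ≤ k - e g hg by omega) (mem_pow_irrelevant hgen _ (SetLike.coe_mem _))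
  · rintro ⟨n₀, hn₀⟩
    refine isZero_of_nilpotent fun z d f hd hf => ?_
    refine ⟨n₀, ?_⟩
    rw [← DirectSum.sum_support_decompose ℳ z, Finset.smul_sum]
    refine Finset.sum_eq_zero fun l _ => ?_
    have h0 : f ^ n₀ ∈ 𝒜 (n₀ • d) := SetLike.pow_mem_graded _ hf
    have h1 : f ^ n₀ • (DirectSum.decompose ℳ z l : M) ∈ ℳ (n₀ • d + l) :=
      SetLike.GradedSMul.smul_mem h0 (SetLike.coe_mem (DirectSum.decompose ℳ z l))
    exact hn₀ _ (by simp only [smul_eq_mul]; have := Nat.le_mul_of_pos_right n₀ hd; omega) _ h1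

end Basic

end Groth.L18.GrM
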