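import Groth.Agent.L18.GrMod.BaseChangeIso

/-!
# `Φ^* O(n) ≅ O(n)` when the graded ring is extended by a change of coefficients

`ψ : A → B` exhibits `B` as `R ⊗_{R'} A`, the coefficients in degree zero. No generation hypothesis:
over `D₊(f)`, `deg f = d`, sections of `O(n)` are the `a / f ^ q` with `deg a = q d + n`.
-/

set_option autoImplicit false
set_option linter.style.haveILetI false
set_option backward.isDefEq.respectTransparency false
set_option backward.isDefEq.respectTransparency.types false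
universe u

open CategoryTheory CategoryTheory.Limits AlgebraicGeometry TopologicalSpace Opposite DirectSum
open HomogeneousLocalization (Away)
open scoped HomogeneousIdeal TensorProduct
open Groth.L18.Frame (rs rs_self pull pull_smul)

noncomputable section

namespace Groth.L18.GrM.CBC

section One

variable {A σ : Type u} [CommRing A] [SetLike σ A] [AddSubgroupClass σ A] {𝒜 : ℕ → σ} [GradedRing 𝒜]
  {d : ℕ} {f : A} (hd : 0 < d) (hf : f ∈ 𝒜 d) {n : ℤ}
  {W : (Proj 𝒜).Opens} (hWt : W ≤ Proj.basicOpen 𝒜 f)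

/-- Fractions as scalars. -/
def sc (k : ℕ) (b : A) (hb : b ∈ 𝒜 (k • d)) : Γ(Proj 𝒜, W) :=
  (Proj 𝒜).presheaf.map (homOfLE hWt).op (Proj.awayToSection 𝒜 f (Away.mk 𝒜 hf k b hb))

theorem sc_val (k : ℕ) (b : A) (hb : b ∈ 𝒜 (k • d)) (x : (W : Opens (ProjectiveSpectrum.top 𝒜))) :
    ((show GrTwist.O (𝒜 := 𝒜) (op W) from sc hf hWt k b hb).1 x).val =
      Localization.mk b ⟨f ^ k, notMem_pow (BCI.notMem_of_mem hWt x) k⟩ := by
  refine (ProjectiveSpectrum.Proj.awayToSection_apply 𝒜 f (Away.mk 𝒜 hf k b hb) ⟨x.1, hWt x.2⟩).trans ?_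
  rw [Away.val_mk, Localization.mk_eq_mk', IsLocalization.map_mk', Localization.mk_eq_mk']
  rfl

include hd in
theorem sc_surjective (hW : W = Proj.basicOpen 𝒜 f) (c : Γ(Proj 𝒜, W)) :
    ∃ (k : ℕ) (b : A) (hb : b ∈ 𝒜 (k • d)), sc hf hWt k b hb = c := by
  subst hW
  obtain ⟨z, rfl⟩ := ((ConcreteCategory.isIso_iff_bijective (Proj.awayToSection 𝒜 f)).mp
    (Proj.basicOpenIsoAway 𝒜 f hf hd).isIso_hom).2 c
  obtain ⟨k, a, ha, rfl⟩ := Away.mk_surjective 𝒜 hf z
  exact ⟨k, a, ha, by simp only [sc, homOfLE_refl, op_id, CategoryTheory.Functor.map_id]; rfl⟩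

/-- Degree zero elements as scalars. -/
def scal0 (W : (Proj 𝒜).Opens) (hWt : W ≤ Proj.basicOpen 𝒜 f) : 𝒜 0 →+* Γ(Proj 𝒜, W) :=
  ((Proj.awayToSection 𝒜 f ≫ (Proj 𝒜).presheaf.map (homOfLE hWt).op).hom).comp
    (HomogeneousLocalization.fromZeroRingHom 𝒜 _)

theorem scal0_val (c : 𝒜 0) (x : (W : Opens (ProjectiveSpectrum.top 𝒜))) :
    ((show GrTwist.O (𝒜 := 𝒜) (op W) from scal0 W hWt c).1 x).val =
      Localization.mk (c : A) 1 := by
  refine (ProjectiveSpectrum.Proj.awayToSection_apply 𝒜 f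
    (HomogeneousLocalization.fromZeroRingHom 𝒜 _ c) ⟨x.1, hWt x.2⟩).trans ?_
  erw [HomogeneousLocalization.val_mk]
  rw [Localization.mk_eq_mk', IsLocalization.map_mk', Localization.mk_eq_mk']
  rfl

/-- Degrees occurring in the sections of `O(n)` over `D₊(f)`. -/
def Good (d : ℕ) (n : ℤ) (i : ℕ) : Prop := ∃ q : ℤ, (i : ℤ) = q * d + n

open scoped Classical in
variable (n) in
/-- A homogeneous element as a section. -/
def secAux (i : ℕ) (a : 𝒜 i) : Γ(GrMod.tilde 𝒜 𝒜 n, W) :=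
  if h : Good d n i then
    gen (⟨f ^ (-h.choose).toNat • (a : A), SetLike.GradedSMul.smul_mem (SetLike.pow_mem_graded _ hf) a.2⟩ :
        𝒜 ((-h.choose).toNat • d + i))
      (⟨f ^ h.choose.toNat, SetLike.pow_mem_graded _ hf⟩ : 𝒜 (h.choose.toNat • d))
      (by
        push_cast [smul_eq_mul]
        linear_combination h.choose_spec - (d : ℤ) * (Int.toNat_sub_toNat_neg h.choose))
      W fun x => notMem_pow (BCI.notMem_of_mem hWt x) _
  else 0

include hd in
theorem secAux_val {i : ℕ} (a : 𝒜 i) (p s : ℕ) (h : (i : ℤ) = ((s : ℤ) - p) * d + n)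
    (x : (W : Opens (ProjectiveSpectrum.top 𝒜))) :
    ((show GrMod.sect 𝒜 𝒜 n (op W) from secAux hf n hWt i a).1 x).1 =
      LocalizedModule.mk (f ^ p • (a : A)) ⟨f ^ s, notMem_pow (BCI.notMem_of_mem hWt x) _⟩ := by
  have hg : Good d n i := ⟨_, h⟩
  have e : ((s : ℤ) - p) = hg.choose :=
    mul_right_cancel₀ (show (d : ℤ) ≠ 0 by omega) (by linear_combination hg.choose_spec - h)
  rw [secAux, dif_pos hg]
  show LocalizedModule.mk (f ^ (-hg.choose).toNat • (a : A))
    ⟨f ^ hg.choose.toNat, notMem_pow (BCI.notMem_of_mem hWt x) _⟩ = _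
  rw [LocalizedModule.mk_eq]
  refine ⟨1, ?_⟩
  simp only [one_smul, Submonoid.smul_def, smul_smul, ← pow_add]
  congr 2
  omega

theorem secAux_bad {i : ℕ} (a : 𝒜 i) (h : ¬ Good d n i) : secAux hf n hWt i a = 0 := dif_neg h

variable (n) in
/-- `a ↦ a / f ^ q` on degrees `q d + n`, zero on the others. -/
def eps : A →+ Γ(GrMod.tilde 𝒜 𝒜 n, W) :=
  (DirectSum.toAddMonoid fun i => AddMonoidHom.mk' (secAux hf n hWt i) fun y z => by
    by_cases hg : Good d n i
    · refine sect_ext (n := n) fun x => ?_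
      simp only [secAux, dif_pos hg]
      show LocalizedModule.mk (f ^ (-hg.choose).toNat • ((y : A) + z)) _ =
        LocalizedModule.mk (f ^ (-hg.choose).toNat • (y : A)) _ + LocalizedModule.mk (f ^ (-hg.choose).toNat • (z : A)) _
      rw [LocalizedModule.mk_add_mk, LocalizedModule.mk_eq]
      refine ⟨1, ?_⟩
      simp only [one_smul, Submonoid.smul_def, Submonoid.coe_mul, smul_eq_mul]
      ring
    · simp only [secAux_bad hf hWt _ hg, add_zero]).comp
  (DirectSum.decomposeAddEquiv 𝒜).toAddMonoidHom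

theorem eps_of_mem {i : ℕ} {a : A} (ha : a ∈ 𝒜 i) :
    eps hf n hWt a = secAux hf n hWt i (⟨a, ha⟩ : 𝒜 i) := by
  have h : DirectSum.decomposeAddEquiv 𝒜 a = DirectSum.of (fun i => 𝒜 i) i ⟨a, ha⟩ := decompose_of_mem 𝒜 ha
  simp only [eps, AddMonoidHom.comp_apply]
  erw [h]
  rw [DirectSum.toAddMonoid_of]
  rfl

include hd in
/-- `f ^ K` does not change the section. -/
theorem eps_pow_mul (K : ℕ) (a : A) : eps hf n hWt (f ^ K * a) = eps hf n hWt a := by
  induction a using DirectSum.Decomposition.inductionOn 𝒜 with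
  | zero => rw [mul_zero]
  | add a b h h' => rw [mul_add, map_add, map_add, h, h']
  | homogeneous a =>
    rename_i i
    rw [eps_of_mem hf hWt (SetLike.mul_mem_graded (SetLike.pow_mem_graded K hf) a.2), eps_of_mem hf hWt a.2]
    by_cases hg : Good d n i
    · obtain ⟨q, hq⟩ := hg
      have h0 : (i : ℤ) = ((q.toNat : ℤ) - (-q).toNat) * d + n := by rw [Int.toNat_sub_toNat_neg]; exact hq
      refine sect_ext (n := n) fun x => ?_
      refine (secAux_val hd hf hWt _ (-q).toNat (q.toNat + K) ?_ x).trans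
        (Eq.trans ?_ (secAux_val hd hf hWt _ (-q).toNat q.toNat h0 x).symm)
      · push_cast [smul_eq_mul]; linear_combination h0
      · rw [LocalizedModule.mk_eq]
        refine ⟨1, ?_⟩
        simp only [one_smul, Submonoid.smul_def, smul_eq_mul, pow_add]
        ring
    · rw [secAux_bad hf hWt _ hg, secAux_bad]
      rintro ⟨q, hq⟩
      refine hg ⟨q - K, ?_⟩
      push_cast [smul_eq_mul] at hq
      linear_combination hq

include hd in
theorem eps_coe_mul (c : 𝒜 0) (a : A) : eps hf n hWt ((c : A) * a) = scal0 W hWt c • eps hf n hWt a := by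
  induction a using DirectSum.Decomposition.inductionOn 𝒜 with
  | zero => rw [mul_zero, map_zero, smul_zero]
  | add a b h h' => rw [mul_add, map_add, map_add, h, h', smul_add]
  | homogeneous a =>
    rename_i i
    rw [eps_of_mem hf hWt (SetLike.mul_mem_graded c.2 a.2), eps_of_mem hf hWt a.2]
    by_cases hg : Good d n i
    · obtain ⟨q, hq⟩ := hg
      have h0 : (i : ℤ) = ((q.toNat : ℤ) - (-q).toNat) * d + n := by rw [Int.toNat_sub_toNat_neg]; exact hq
      refine sect_ext (n := n) fun x => ?_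
      refine (secAux_val hd hf hWt _ (-q).toNat q.toNat (by rw [Nat.zero_add]; exact h0) x).trans ?_
      refine Eq.trans ?_ (GrMod.coe_smul_val n x.1 _ _).symm
      refine Eq.trans ?_ (congrArg₂ (· • ·) (scal0_val hWt c x) (secAux_val hd hf hWt _ _ _ h0 x)).symm
      rw [LocalizedModule.mk_smul_mk, LocalizedModule.mk_eq]
      refine ⟨1, ?_⟩
      simp only [one_smul, Submonoid.smul_def, Submonoid.coe_mul, smul_eq_mul, OneMemClass.coe_one, one_mul]
      ring
    · rw [secAux_bad hf hWt _ hg, secAux_bad hf hWt _ (by rwa [Nat.zero_add]), smul_zero]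

include hd in
theorem eps_surjective
    (hW : ∀ x : ProjectiveSpectrum 𝒜, x ∈ (W : Opens (ProjectiveSpectrum.top 𝒜)) ↔ f ∉ x.asHomogeneousIdeal)
    (s : Γ(GrMod.tilde 𝒜 𝒜 n, W)) : ∃ a : A, eps hf n hWt a = s := by
  obtain ⟨K, m, a, ha, hm, hs⟩ := exists_eq_mk hd hf hW (show GrMod.sect 𝒜 𝒜 n (op W) from s)
  refine ⟨a, ?_⟩
  rw [eps_of_mem hf hWt ha]
  refine sect_ext (n := n) fun x =>
    (secAux_val hd hf hWt _ 0 K (by push_cast at hm ⊢; linear_combination hm) x).trans ((hs x).trans ?_).symm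
  simp only [pow_zero, one_smul]

include hd in
theorem eps_eq_zero {i : ℕ} {a : A} (ha : a ∈ 𝒜 i) (hg : Good d n i) (hW : W = Proj.basicOpen 𝒜 f)
    (h : eps hf n hWt a = 0) : ∃ k : ℕ, f ^ k * a = 0 := by
  obtain ⟨q, hq⟩ := hg
  have h0 : (i : ℤ) = ((q.toNat : ℤ) - (-q).toNat) * d + n := by rw [Int.toNat_sub_toNat_neg]; exact hq
  refine exists_pow_smul_eq_zero (𝒜 := 𝒜) (ℳ := 𝒜) hd ha hf fun x hx => ?_
  have hxW : x ∈ W := by subst hW; exact (Proj.mem_basicOpen _ _ _).2 hx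
  rw [eps_of_mem hf hWt ha] at h
  have h1 : LocalizedModule.mk (f ^ (-q).toNat • a) _ = (0 : GrMod.LocMod 𝒜 (M := A) x) :=
    (secAux_val hd hf hWt ⟨a, ha⟩ _ _ h0 ⟨x, hxW⟩).symm.trans
      (congrArg (fun s : GrMod.sect 𝒜 𝒜 n (op W) => (s.1 ⟨x, hxW⟩).1) h)
  obtain ⟨c, hc, hc0⟩ := (mk_eq_zero_iff _).1 h1
  exact ⟨c * f ^ (-q).toNat, notMem_mul hc (notMem_pow hx _), by rw [← smul_smul, hc0]⟩

end One

section Main

variable {A σ : Type u} [CommRing A] [SetLike σ A] [AddSubgroupClass σ A] {𝒜 : ℕ → σ} [GradedRing 𝒜]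
  {B σ' : Type u} [CommRing B] [SetLike σ' B] [AddSubgroupClass σ' B] {ℬ : ℕ → σ'} [GradedRing ℬ]
  (ψ : 𝒜 →+*ᵍ ℬ) (hψ : ℬ₊ ≤ (𝒜₊).map ψ)

/-- `ψ` as a semilinear map between the rings. -/
def self : A →ₛₗ[ψ.toRingHom] B where
  toFun := ψ
  map_add' := map_add ψ.toRingHom
  map_smul' a b := map_mul ψ.toRingHom a b

theorem self_apply (a : A) : self ψ a = ψ a := rfl

theorem self_mem (i : ℕ) (m : A) (h : m ∈ 𝒜 i) : self ψ m ∈ ℬ i := by
  rw [self_apply]
  exact ψ.map_mem h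

theorem app_sc {d : ℕ} {f : A} (hf : f ∈ 𝒜 d)
    (hWt : Proj.map ψ hψ ⁻¹ᵁ Proj.basicOpen 𝒜 f ≤ Proj.basicOpen ℬ (ψ f)) (k : ℕ) (a : A) (ha : a ∈ 𝒜 (k • d)) :
    (Proj.map ψ hψ).app (Proj.basicOpen 𝒜 f) (sc hf le_rfl k a ha) =
      sc (ψ.map_mem hf) hWt k (ψ a) (ψ.map_mem ha) := by
  refine Subtype.ext (funext fun y => HomogeneousLocalization.val_injective _ ?_)
  refine Eq.trans ?_ (sc_val (ψ.map_mem hf) hWt k _ _ y).symm
  show ((Proj.comapStructureSheaf ψ hψ _ _ Set.Subset.rfl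
    (show GrTwist.O (𝒜 := 𝒜) (op (Proj.basicOpen 𝒜 f)) from sc hf le_rfl k a ha)).1 y).val = _
  rw [GrTwist.comapStructureSheaf_apply, HomogeneousLocalization.val_localRingHom]
  refine (congrArg _ (sc_val hf le_rfl k a ha ⟨ProjectiveSpectrum.comap ψ hψ y.1, y.2⟩)).trans ?_
  rw [Localization.mk_eq_mk']
  erw [Localization.localRingHom_mk']
  rw [Localization.mk_eq_mk']
  congr 1
  exact Subtype.ext (map_pow ψ _ _)

theorem comap_eps {d : ℕ} {f : A} (hd : 0 < d) (hf : f ∈ 𝒜 d) (n : ℤ)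
    (hWt : Proj.map ψ hψ ⁻¹ᵁ Proj.basicOpen 𝒜 f ≤ Proj.basicOpen ℬ (ψ f)) (a : A) :
    (GrMod.comap ψ hψ (ℳ := 𝒜) (𝒩 := ℬ) (self ψ) (self_mem ψ) n).app (Proj.basicOpen 𝒜 f)
        (eps hf n le_rfl a) = eps (ψ.map_mem hf) n hWt (ψ a) := by
  induction a using DirectSum.Decomposition.inductionOn 𝒜 with
  | zero => simp only [map_zero]
  | add a b h h' => simp only [map_add, h, h']
  | homogeneous a =>
    rename_i i
    rw [eps_of_mem hf le_rfl a.2]
    erw [eps_of_mem (ψ.map_mem hf) hWt (ψ.map_mem a.2)]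
    by_cases hg : Good d n i
    · obtain ⟨q, hq⟩ := hg
      have h0 : (i : ℤ) = ((q.toNat : ℤ) - (-q).toNat) * d + n := by rw [Int.toNat_sub_toNat_neg]; exact hq
      refine sect_ext (n := n) fun y => ?_
      refine Eq.trans ?_ (secAux_val hd (ψ.map_mem hf) hWt _ _ _ h0 y).symm
      refine Eq.trans (congrArg (GrMod.locModMap ψ hψ (self ψ) y.1) (secAux_val hd hf le_rfl _ _ _ h0 ⟨_, y.2⟩)) ?_
      rw [GrMod.locModMap_mk, LinearMap.map_smulₛₗ]
      congr 1
      · exact congrArg (· • ψ (a : A)) (map_pow ψ _ _)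
      · exact Subtype.ext (map_pow ψ _ _)
    · rw [secAux_bad hf _ _ hg, secAux_bad _ hWt _ hg, map_zero]

/-- The two pull back maps of twisting sheaves agree. -/
theorem comap_twist_eq (n : ℤ) :
    GrTwist.comap ψ hψ n = GrMod.comap ψ hψ (ℳ := 𝒜) (𝒩 := ℬ) (self ψ) (self_mem ψ) n := by
  refine Scheme.Modules.hom_ext _ _ fun U => ?_
  ext s
  refine sect_ext (n := n) fun y => ?_
  show GrTwist.locMap ψ hψ y.1 ((show GrTwist.sectN (𝒜 := 𝒜) n (op U) from s).1 ⟨_, y.2⟩).1 =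
    GrMod.locModMap ψ hψ (self ψ) y.1 ((show GrTwist.sectN (𝒜 := 𝒜) n (op U) from s).1 ⟨_, y.2⟩).1
  generalize ((show GrTwist.sectN (𝒜 := 𝒜) n (op U) from s).1 ⟨_, y.2⟩).1 = z
  induction z using Localization.induction_on with
  | H p => exact (GrTwist.locMap_mk ψ hψ y.1 p.1 p.2).trans (GrMod.locModMap_mk ψ hψ (self ψ) y.1 p.1 p.2).symm

variable {R' R : Type u} [CommRing R'] [CommRing R] [Algebra R' R] [Algebra R' A] [Algebra R B] [Algebra R' B]
  [IsScalarTower R' R B]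

theorem isIso_adjunct_comap (ψl : A →ₗ[R'] B) (hψl : ∀ a, ψl a = ψ a) (hbc : IsBaseChange R ψl)
    (hA0 : ∀ r : R', algebraMap R' A r ∈ 𝒜 0) (hB0 : ∀ r : R, algebraMap R B r ∈ ℬ 0)
    (hψ0 : ∀ r : R', ψ (algebraMap R' A r) = algebraMap R' B r) (n : ℤ) :
    IsIso (((Scheme.Modules.pullbackPushforwardAdjunction (Proj.map ψ hψ)).homEquiv _ _).symm
      (GrMod.comap ψ hψ (ℳ := 𝒜) (𝒩 := ℬ) (self ψ) (self_mem ψ) n)) := by
  classical
  let φ := Proj.map ψ hψ
  let G := GrMod.tilde 𝒜 𝒜 n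
  let P := (Scheme.Modules.pullback φ).obj G
  let θ := GrMod.comap ψ hψ (ℳ := 𝒜) (𝒩 := ℬ) (self ψ) (self_mem ψ) n
  set a := ((Scheme.Modules.pullbackPushforwardAdjunction φ).homEquiv _ _).symm θ with ha
  haveI : Coh.IsQCoh G := isQCoh_tilde 𝒜 𝒜 n
  haveI : Coh.IsQCoh P := Groth.L16.AffineBC.isQCoh_pullback φ G
  haveI : Coh.IsQCoh (GrMod.tilde ℬ ℬ n) := isQCoh_tilde ℬ ℬ n
  rw [Groth.L21.Mod.isIso_iff_stalk_bijective]
  intro y
  obtain ⟨d, f, hd, hf, hfy⟩ := exists_hom_pos (ProjectiveSpectrum.comap ψ hψ y)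
  have hf' : ψ f ∈ ℬ d := ψ.map_mem hf
  let V : (Proj 𝒜).Opens := Proj.basicOpen 𝒜 f
  have hmem : ∀ z : ProjectiveSpectrum ℬ, z ∈ (φ ⁻¹ᵁ V : Opens (ProjectiveSpectrum.top ℬ)) ↔
      ψ f ∉ z.asHomogeneousIdeal := fun z => ProjectiveSpectrum.mem_basicOpen 𝒜 f (ProjectiveSpectrum.comap ψ hψ z)
  have hWeq : φ ⁻¹ᵁ V = Proj.basicOpen ℬ (ψ f) :=
    Opens.ext (Set.ext fun z => (hmem z).trans (Proj.mem_basicOpen ℬ _ _).symm)
  have hWt : φ ⁻¹ᵁ V ≤ Proj.basicOpen ℬ (ψ f) := hWeq.le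
  have hWaff : IsAffineOpen (φ ⁻¹ᵁ V) := hWeq ▸ Proj.isAffineOpen_basicOpen ℬ (ψ f) hf' hd
  refine BCI.stalk_bijective_of_app_bijective a hWaff ?_ ((hmem y).2 hfy)
  let sA : R' →+* Γ(Proj 𝒜, V) := (scal0 (f := f) V le_rfl).comp
    { toFun := fun r => ⟨algebraMap R' A r, hA0 r⟩
      map_one' := Subtype.ext (map_one _)
      map_mul' := fun x z => Subtype.ext (map_mul _ x z)
      map_zero' := Subtype.ext (map_zero _)
      map_add' := fun x z => Subtype.ext (map_add _ x z) }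
  let sB : R →+* Γ(Proj ℬ, φ ⁻¹ᵁ V) := (scal0 (f := ψ f) _ hWt).comp
    { toFun := fun r => ⟨algebraMap R B r, hB0 r⟩
      map_one' := Subtype.ext (map_one _)
      map_mul' := fun x z => Subtype.ext (map_mul _ x z)
      map_zero' := Subtype.ext (map_zero _)
      map_add' := fun x z => Subtype.ext (map_add _ x z) }
  have hsAB : ∀ r : R', φ.app V (sA r) = sB (algebraMap R' R r) := by
    intro r
    refine Subtype.ext (funext fun z => HomogeneousLocalization.val_injective _ ?_)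
    refine Eq.trans ?_ (scal0_val hWt _ z).symm
    show ((Proj.comapStructureSheaf ψ hψ _ _ Set.Subset.rfl
      (show GrTwist.O (𝒜 := 𝒜) (op V) from sA r)).1 z).val = _
    rw [GrTwist.comapStructureSheaf_apply, HomogeneousLocalization.val_localRingHom]
    refine (congrArg _ (scal0_val (f := f) le_rfl ⟨algebraMap R' A r, hA0 r⟩
      ⟨ProjectiveSpectrum.comap ψ hψ z.1, z.2⟩)).trans ?_
    rw [Localization.mk_eq_mk']
    erw [Localization.localRingHom_mk']
    rw [Localization.mk_eq_mk']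
    congr 1
    · exact (hψ0 r).trans (IsScalarTower.algebraMap_apply R' R B r)
    · exact Subtype.ext (map_one ψ)
  letI : Module R Γ(P, φ ⁻¹ᵁ V) := Module.compHom _ sB
  letI : Module R' Γ(P, φ ⁻¹ᵁ V) := Module.compHom _ (sB.comp (algebraMap R' R))
  haveI : IsScalarTower R' R Γ(P, φ ⁻¹ᵁ V) := IsScalarTower.of_algebraMap_smul fun _ _ => rfl
  letI : Module R Γ(GrMod.tilde ℬ ℬ n, φ ⁻¹ᵁ V) := Module.compHom _ sB
  letI : Module R' Γ(GrMod.tilde ℬ ℬ n, φ ⁻¹ᵁ V) := Module.compHom _ (sB.comp (algebraMap R' R))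
  haveI : IsScalarTower R' R Γ(GrMod.tilde ℬ ℬ n, φ ⁻¹ᵁ V) := IsScalarTower.of_algebraMap_smul fun _ _ => rfl
  let w : A →ₗ[R'] Γ(P, φ ⁻¹ᵁ V) :=
    { toFun := fun m => pull φ G V (eps hf n le_rfl m)
      map_add' := fun x z => by
        rw [map_add]
        exact map_add (((Scheme.Modules.pullbackPushforwardAdjunction φ).unit.app G).app V).hom _ _
      map_smul' := fun c m => by
        rw [Algebra.smul_def, show algebraMap R' A c * m = ((⟨algebraMap R' A c, hA0 c⟩ : 𝒜 0) : A) * m from rfl,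
          eps_coe_mul hd hf le_rfl, pull_smul]
        exact congrArg (· • _) (hsAB c) }
  let g : B →ₗ[R] Γ(P, φ ⁻¹ᵁ V) := hbc.lift w
  have hg : ∀ m : A, g (ψ m) = w m := fun m => by rw [← hψl]; exact hbc.lift_eq w m
  let av : Γ(P, φ ⁻¹ᵁ V) →ₗ[R] Γ(GrMod.tilde ℬ ℬ n, φ ⁻¹ᵁ V) :=
    { toFun := fun q => a.app _ q
      map_add' := fun x z => map_add _ x z
      map_smul' := fun c q => a.app_smul (sB c) q }
  let εN : B →ₗ[R] Γ(GrMod.tilde ℬ ℬ n, φ ⁻¹ᵁ V) :=
    { toFun := eps hf' n hWt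
      map_add' := fun x z => map_add _ x z
      map_smul' := fun c z => by
        rw [Algebra.smul_def, show algebraMap R B c * z = ((⟨algebraMap R B c, hB0 c⟩ : ℬ 0) : B) * z from rfl,
          eps_coe_mul hd hf' hWt]
        rfl }
  have hpull : ∀ s : Γ(G, V), a.app (φ ⁻¹ᵁ V) (pull φ G V s) = θ.app V s := by
    intro s
    have h1 : (Scheme.Modules.pullbackPushforwardAdjunction φ).unit.app G ≫ (Scheme.Modules.pushforward φ).map a = θ :=
      (Adjunction.homEquiv_unit _ _ _ _).symm.trans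
        (((Scheme.Modules.pullbackPushforwardAdjunction φ).homEquiv _ _).apply_symm_apply θ)
    exact congr($(h1).app V s)
  have key : ∀ z : B, a.app (φ ⁻¹ᵁ V) (g z) = eps hf' n hWt z := by
    refine fun z => LinearMap.congr_fun (hbc.algHom_ext (av.comp g) εN fun m => ?_) z
    rw [hψl]
    show a.app _ (g (ψ m)) = eps hf' n hWt (ψ m)
    rw [hg]
    exact (hpull _).trans (comap_eps ψ hψ hd hf n hWt m)
  have hgf : ∀ (K : ℕ) (z : B), g (ψ f ^ K * z) = g z := by
    intro K z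
    refine LinearMap.congr_fun (hbc.algHom_ext (g.comp (LinearMap.mulLeft R (ψ f ^ K))) g fun m => ?_) z
    rw [hψl]
    show g (ψ f ^ K * ψ m) = g (ψ m)
    rw [← map_pow, ← map_mul, hg, hg]
    show pull φ G V (eps hf n le_rfl (f ^ K * m)) = pull φ G V (eps hf n le_rfl m)
    rw [eps_pow_mul hd]
  -- components as linear maps
  let pr : ℕ → B →ₗ[R] B := fun i =>
    { toFun := fun z => (decompose ℬ z i : B)
      map_add' := fun x z => by rw [decompose_add]; rfl
      map_smul' := fun c z => by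
        rw [RingHom.id_apply, Algebra.smul_def, Algebra.smul_def,
          coe_decompose_mul_of_left_mem_of_le ℬ (hB0 c) (Nat.zero_le i), Nat.sub_zero] }
  have hpr : ∀ (i : ℕ) (m : A), pr i (ψ m) = ψ (decompose 𝒜 m i : A) := by
    intro i m
    exact (Groth.L18.RelTilde.map_component (self ψ) (self_mem ψ) m i).symm
  have gsurj : ∀ q : Γ(P, φ ⁻¹ᵁ V), ∀ c : Γ(Proj ℬ, φ ⁻¹ᵁ V), ∃ z : B, g z = c • q := by
    intro q
    letI : Algebra Γ(Proj 𝒜, V) Γ(Proj ℬ, φ ⁻¹ᵁ V) := (φ.appLE V (φ ⁻¹ᵁ V) le_rfl).hom.toAlgebra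
    letI : Module Γ(Proj 𝒜, V) Γ(P, φ ⁻¹ᵁ V) := Module.compHom _ (φ.appLE V (φ ⁻¹ᵁ V) le_rfl).hom
    haveI : IsScalarTower Γ(Proj 𝒜, V) Γ(Proj ℬ, φ ⁻¹ᵁ V) Γ(P, φ ⁻¹ᵁ V) :=
      IsScalarTower.of_algebraMap_smul fun _ _ => rfl
    induction q using (Groth.L16.AffineBC.isBaseChange_pull φ G
      (Proj.isAffineOpen_basicOpen 𝒜 f hf hd) hWaff le_rfl).inductionOn with
    | zero => exact fun c => ⟨0, by rw [map_zero, smul_zero]⟩
    | add q q' h h' =>
      intro c
      obtain ⟨z, hz⟩ := h c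
      obtain ⟨z', hz'⟩ := h' c
      exact ⟨z + z', by rw [map_add, hz, hz', smul_add]⟩
    | smul c q h =>
      intro c'
      obtain ⟨z, hz⟩ := h (c' * c)
      exact ⟨z, by rw [hz, mul_smul]⟩
    | tmul s =>
      intro c
      show ∃ z, g z = c • rs P le_rfl (pull φ G V s)
      rw [rs_self]
      obtain ⟨k, b, hb, rfl⟩ := sc_surjective hd hf' hWt hWeq c
      have hT : ∀ z : B, ∃ z' : B,
          g z' = sc hf' hWt k (pr (k • d) z) (SetLike.coe_mem _) • pull φ G V s := by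
        intro z
        induction z using hbc.inductionOn with
        | zero =>
          refine ⟨0, ?_⟩
          have e0 : sc hf' hWt k (pr (k • d) (0 : B)) (SetLike.coe_mem _) = 0 := by
            refine Subtype.ext (funext fun x => HomogeneousLocalization.val_injective _ ?_)
            refine (sc_val hf' hWt k _ _ x).trans ?_
            simp only [map_zero, Localization.mk_zero]
            exact HomogeneousLocalization.val_zero.symm
          rw [e0, zero_smul, map_zero]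
        | tmul m =>
          obtain ⟨m', hm'⟩ := eps_surjective hd hf le_rfl (fun x => Proj.mem_basicOpen 𝒜 f x)
            (sc hf le_rfl k (decompose 𝒜 m (k • d) : A) (SetLike.coe_mem _) • s)
          refine ⟨ψ m', ?_⟩
          rw [hg]
          show pull φ G V (eps hf n le_rfl m') = _
          rw [hm', pull_smul, app_sc ψ hψ hf hWt]
          congr 2
          rw [hψl, hpr]
        | smul r z h =>
          obtain ⟨z', hz'⟩ := h
          refine ⟨r • z', ?_⟩
          rw [map_smul, hz']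
          show sB r • (sc hf' hWt k (pr (k • d) z) (SetLike.coe_mem _) • pull φ G V s) = _
          rw [← mul_smul]
          congr 1
          refine Subtype.ext (funext fun x => HomogeneousLocalization.val_injective _ ?_)
          refine (HomogeneousLocalization.val_mul _ _).trans (Eq.trans ?_ (sc_val hf' hWt k _ _ x).symm)
          refine (congrArg₂ (· * ·) (scal0_val hWt _ x) (sc_val hf' hWt k _ _ x)).trans ?_
          rw [Localization.mk_mul, map_smul]
          congr 1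
          · exact (Algebra.smul_def r _).symm
          · exact one_mul _
        | add z z₁ h h₁ =>
          obtain ⟨x, hx⟩ := h
          obtain ⟨x₁, hx₁⟩ := h₁
          refine ⟨x + x₁, ?_⟩
          rw [map_add, hx, hx₁, ← add_smul]
          congr 1
          refine Subtype.ext (funext fun x => HomogeneousLocalization.val_injective _ ?_)
          refine (HomogeneousLocalization.val_add _ _).trans (Eq.trans ?_ (sc_val hf' hWt k _ _ x).symm)
          refine (congrArg₂ (· + ·) (sc_val hf' hWt k _ _ x) (sc_val hf' hWt k _ _ x)).trans ?_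
          rw [Localization.add_mk_self]
          simp only [map_add]
      obtain ⟨z', hz'⟩ := hT b
      refine ⟨z', hz'.trans ?_⟩
      congr 2
      exact decompose_of_mem_same ℬ hb
  refine ⟨(injective_iff_map_eq_zero (a.app (φ ⁻¹ᵁ V)).hom).2 fun q hq => ?_, fun s => ?_⟩
  · obtain ⟨z, hz⟩ := gsurj q 1
    rw [one_smul] at hz
    subst hz
    have hbad : ∀ (i : ℕ) (z : B), ¬ Good d n i → g (pr i z) = 0 := by
      intro i z hi
      refine LinearMap.congr_fun (hbc.algHom_ext (g.comp (pr i)) 0 fun m => ?_) z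
      rw [hψl]
      show g (pr i (ψ m)) = 0
      rw [hpr, hg]
      show pull φ G V (eps hf n le_rfl (decompose 𝒜 m i : A)) = 0
      rw [eps_of_mem hf le_rfl (SetLike.coe_mem _), secAux_bad hf _ _ hi]
      exact map_zero (((Scheme.Modules.pullbackPushforwardAdjunction φ).unit.app G).app V).hom
    let S := (decompose ℬ z).support.filter (Good d n)
    have hsum : g z = ∑ i ∈ S, g (pr i z) := by
      conv_lhs => rw [← sum_support_decompose ℬ z]
      rw [map_sum, Finset.sum_filter]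
      refine Finset.sum_congr rfl fun i _ => ?_
      split_ifs with hi
      · rfl
      · exact hbad i z hi
    rcases S.eq_empty_or_nonempty with hS | ⟨i₀, hi₀⟩
    · rw [hsum, hS, Finset.sum_empty]
    obtain ⟨D, hD, hSD⟩ : ∃ D : ℕ, Good d n D ∧ ∀ i ∈ S, ∃ e : ℕ, e • d + i = D := by
      choose q hq using fun i : S => (Finset.mem_filter.1 i.2).2
      let i₁ : S := (Finset.univ.exists_max_image q ⟨⟨i₀, hi₀⟩, Finset.mem_univ _⟩).choose
      refine ⟨i₁.1, ⟨q i₁, hq i₁⟩, fun i hi => ⟨(q i₁ - q ⟨i, hi⟩).toNat, ?_⟩⟩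
      have hle : q ⟨i, hi⟩ ≤ q i₁ :=
        (Finset.univ.exists_max_image q ⟨⟨i₀, hi₀⟩, Finset.mem_univ _⟩).choose_spec.2 _ (Finset.mem_univ _)
      have : (((q i₁ - q ⟨i, hi⟩).toNat • d + i : ℕ) : ℤ) = (i₁.1 : ℕ) := by
        push_cast [smul_eq_mul, Int.toNat_of_nonneg (sub_nonneg.2 hle)]
        linear_combination hq ⟨i, hi⟩ - hq i₁
      exact_mod_cast this
    choose! e he using hSD
    let z' : B := ∑ i ∈ S, ψ f ^ e i * pr i z
    have hz' : z' ∈ ℬ D := sum_mem fun i hi =>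
      he i hi ▸ SetLike.mul_mem_graded (SetLike.pow_mem_graded _ hf') (SetLike.coe_mem (decompose ℬ z i))
    have e' : g z' = g z := by rw [hsum, map_sum]; exact Finset.sum_congr rfl fun i _ => hgf _ _
    rw [← e'] at hq ⊢
    obtain ⟨k, hk⟩ := eps_eq_zero hd hf' hWt hz' hD hWeq ((key z').symm.trans hq)
    rw [← hgf k z', hk, map_zero]
  · obtain ⟨z, hz⟩ := eps_surjective hd hf' hWt hmem s
    exact ⟨g z, (key z).trans hz⟩

end Main

end Groth.L18.GrM.CBC
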