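import Groth.Agent.L18.GrMod.RestrictScalars
import Groth.Agent.L16.AffineBC.Pullback

/-!
# `Φ^*(M(n)~) ≅ (M ⊗ B)(n)~` when `A₊` is generated in degree one

Over a basic open `D₊(t)`, `deg t = 1`, a homogeneous `y ↦ y / t ^ (deg y - n)` is semilinear over the
dehomogenisation `B → Γ(D₊(t))`, so the universal property of `N = M ⊗_A B` gives the inverse.
-/

set_option autoImplicit false
set_option linter.style.haveILetI false
set_option backward.isDefEq.respectTransparency false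
set_option backward.isDefEq.respectTransparency.types false
universe u

open CategoryTheory CategoryTheory.Limits AlgebraicGeometry TopologicalSpace Opposite DirectSum
open HomogeneousLocalization (Away)
open scoped HomogeneousIdeal TensorProduct
open Groth.L18.Frame (rs rs_self pull pull_smul)

noncomputable section

namespace Groth.L18.GrM.BCI

/-- A map of quasi-coherent modules bijective on an affine open is bijective on the stalks there. -/
theorem stalk_bijective_of_app_bijective {X : Scheme.{u}} {M N : X.Modules} [Coh.IsQCoh M] [Coh.IsQCoh N]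
    (φ : M ⟶ N) {W : X.Opens} (hW : IsAffineOpen W) (hb : Function.Bijective (φ.app W)) {x : X} (hx : x ∈ W) :
    Function.Bijective ((Groth.L21.Mod.stalkF X x).map φ) := by
  let φs := (Groth.L00.Stk.F X x).map φ
  letI := Groth.L20.ModStalk.stalkModule M hx
  letI := Groth.L20.ModStalk.stalkModule N hx
  haveI := Groth.L20.ModStalk.isLocalizedModule_germ M hW hx
  haveI := Groth.L20.ModStalk.isLocalizedModule_germ N hW hx
  let P := (hW.primeIdealOf ⟨x, hx⟩).asIdeal.primeCompl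
  let F : Γ(M, W) ≃ₗ[Γ(X, W)] Γ(N, W) := LinearEquiv.ofBijective
    { toFun := fun m => φ.app W m
      map_add' := fun a b => map_add _ a b
      map_smul' := fun a m => φ.app_smul a m } hb
  let Φ : M.presheaf.stalk x →ₗ[Γ(X, W)] N.presheaf.stalk x :=
    { toFun := fun m => φs m
      map_add' := fun a b => map_add _ a b
      map_smul' := fun a m => φs.hom.map_smul _ m }
  have e : Φ = IsLocalizedModule.map P (Groth.L20.ModStalk.germₗ M hx) (Groth.L20.ModStalk.germₗ N hx) F.toLinearMap := by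
    apply IsLocalizedModule.linearMap_ext P (Groth.L20.ModStalk.germₗ M hx) (Groth.L20.ModStalk.germₗ N hx)
    ext m
    simp only [LinearMap.comp_apply, IsLocalizedModule.map_apply]
    exact Groth.L21.Mod.stalkF_map_germ φ W x hx m
  show Function.Bijective Φ
  rw [e]
  exact ⟨IsLocalizedModule.map_injective _ _ _ _ F.injective, IsLocalizedModule.map_surjective _ _ _ _ F.surjective⟩

section Dehom

variable {A σ : Type u} [CommRing A] [SetLike σ A] [AddSubgroupClass σ A] {𝒜 : ℕ → σ} [GradedRing 𝒜]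
  {t : A} (ht : t ∈ 𝒜 1)

/-- The degree `p` part of dehomogenization. -/
def dehomAux (p : ℕ) : 𝒜 p →+ Away 𝒜 t where
  toFun x := Away.mk 𝒜 ht p x.1 (by rw [smul_eq_mul, mul_one]; exact x.2)
  map_zero' := by
    apply HomogeneousLocalization.val_injective
    rw [Away.val_mk, HomogeneousLocalization.val_zero]
    simp [Localization.mk_zero]
  map_add' x y := by
    apply HomogeneousLocalization.val_injective
    rw [HomogeneousLocalization.val_add, Away.val_mk, Away.val_mk, Away.val_mk, Localization.add_mk_self]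
    rfl

/-- `b ↦ b / t ^ deg b`. -/
def dehom : A →+* Away 𝒜 t :=
  (DirectSum.toSemiring (dehomAux ht)
    (by
      apply HomogeneousLocalization.val_injective
      rw [HomogeneousLocalization.val_one]
      show (Away.mk 𝒜 ht 0 (1 : A) _).val = 1
      rw [Away.val_mk]
      simp only [pow_zero]
      exact Localization.mk_one)
    (fun {i j} ai aj => by
      apply HomogeneousLocalization.val_injective
      rw [HomogeneousLocalization.val_mul]
      show (Away.mk 𝒜 ht (i + j) ((ai : A) * aj) _).val =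
        (Away.mk 𝒜 ht i (ai : A) _).val * (Away.mk 𝒜 ht j (aj : A) _).val
      rw [Away.val_mk, Away.val_mk, Away.val_mk, Localization.mk_mul]
      congr 1
      exact Subtype.ext (pow_add t i j))).comp (decomposeRingEquiv 𝒜).toRingHom

theorem dehom_of_mem {p : ℕ} {b : A} (hb : b ∈ 𝒜 p) :
    dehom ht b = Away.mk 𝒜 ht p b (by rw [smul_eq_mul, mul_one]; exact hb) := by
  have h : decomposeRingEquiv 𝒜 b = DirectSum.of (fun i => 𝒜 i) p ⟨b, hb⟩ := decompose_of_mem 𝒜 hb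
  rw [dehom, RingHom.comp_apply]
  erw [h]
  rw [DirectSum.toSemiring_of]
  rfl

theorem notMem_of_mem {W : (Proj 𝒜).Opens} (hWt : W ≤ Proj.basicOpen 𝒜 t)
    (x : (W : Opens (ProjectiveSpectrum.top 𝒜))) : t ∉ x.1.asHomogeneousIdeal :=
  (Proj.mem_basicOpen _ _ _).1 (hWt x.2)

/-- Dehomogenization as sections over an open in `D₊(t)`. -/
def scal (W : (Proj 𝒜).Opens) (hWt : W ≤ Proj.basicOpen 𝒜 t) : A →+* Γ(Proj 𝒜, W) :=
  ((Proj.awayToSection 𝒜 t ≫ (Proj 𝒜).presheaf.map (homOfLE hWt).op).hom).comp (dehom ht)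

theorem scal_val {W : (Proj 𝒜).Opens} (hWt : W ≤ Proj.basicOpen 𝒜 t) {p : ℕ} {b : A} (hb : b ∈ 𝒜 p)
    (x : (W : Opens (ProjectiveSpectrum.top 𝒜))) :
    ((show GrTwist.O (𝒜 := 𝒜) (op W) from scal ht W hWt b).1 x).val =
      Localization.mk b ⟨t ^ p, notMem_pow (notMem_of_mem hWt x) p⟩ := by
  refine (ProjectiveSpectrum.Proj.awayToSection_apply 𝒜 t (dehom ht b) ⟨x.1, hWt x.2⟩).trans ?_
  rw [dehom_of_mem ht hb, Away.val_mk, Localization.mk_eq_mk', IsLocalization.map_mk', Localization.mk_eq_mk']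
  rfl

theorem scal_surjective : Function.Surjective (scal ht (Proj.basicOpen 𝒜 t) le_rfl) := by
  intro c
  obtain ⟨z, rfl⟩ := ((ConcreteCategory.isIso_iff_bijective (Proj.awayToSection 𝒜 t)).mp
    (Proj.basicOpenIsoAway 𝒜 t ht one_pos).isIso_hom).2 c
  obtain ⟨k, a, ha, rfl⟩ := Away.mk_surjective 𝒜 ht z
  refine ⟨a, ?_⟩
  have ha' : a ∈ 𝒜 k := by rwa [smul_eq_mul, mul_one] at ha
  simp only [scal, RingHom.comp_apply, dehom_of_mem ht ha', homOfLE_refl, op_id,
    CategoryTheory.Functor.map_id, Category.comp_id]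

variable {M τ : Type u} [AddCommGroup M] [Module A M] [SetLike τ M] [AddSubgroupClass τ M]
  {ℳ : ℕ → τ} [DirectSum.Decomposition ℳ] [SetLike.GradedSMul 𝒜 ℳ] {n : ℤ}
  {W : (Proj 𝒜).Opens} (hWt : W ≤ Proj.basicOpen 𝒜 t)

variable (n) in
/-- `y ↦ t ^ (n - i) y`, homogeneous of degree `i`, as a section of `M(n)~`. -/
def secAux (i : ℕ) (y : ℳ i) : Γ(GrMod.tilde 𝒜 ℳ n, W) :=
  gen (⟨t ^ (n - i).toNat • (y : M), SetLike.GradedSMul.smul_mem (SetLike.pow_mem_graded _ ht) y.2⟩ :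
      ℳ ((n - i).toNat • 1 + i))
    (⟨t ^ (i - n).toNat, SetLike.pow_mem_graded _ ht⟩ : 𝒜 ((i - n).toNat • 1))
    (by simp only [smul_eq_mul, mul_one]; omega) W fun x => notMem_pow (notMem_of_mem hWt x) _

theorem secAux_val (i : ℕ) (y : ℳ i) (x : (W : Opens (ProjectiveSpectrum.top 𝒜))) :
    ((show GrMod.sect 𝒜 ℳ n (op W) from secAux ht n hWt i y).1 x).1 =
      LocalizedModule.mk (t ^ (n - i).toNat • (y : M))
        ⟨t ^ (i - n).toNat, notMem_pow (notMem_of_mem hWt x) _⟩ := rfl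

variable (ℳ n) in
/-- `y ↦ y / t ^ (deg y - n)`. -/
def eps : M →+ Γ(GrMod.tilde 𝒜 ℳ n, W) :=
  (DirectSum.toAddMonoid fun i => AddMonoidHom.mk' (secAux ht n hWt i) fun y z => sect_ext (n := n) fun x => by
    refine (secAux_val ht hWt i (y + z) x).trans (Eq.trans ?_
      (congrArg₂ (· + ·) (secAux_val ht hWt i y x) (secAux_val ht hWt i z x)).symm)
    rw [LocalizedModule.mk_add_mk, LocalizedModule.mk_eq]
    refine ⟨1, ?_⟩
    simp only [one_smul, Submonoid.smul_def, Submonoid.coe_mul, AddMemClass.coe_add, smul_add, smul_smul]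
    congr 1 <;> congr 1 <;> ring).comp
  (DirectSum.decomposeAddEquiv ℳ).toAddMonoidHom

theorem eps_of_mem {i : ℕ} {y : M} (hy : y ∈ ℳ i) :
    eps ht ℳ n hWt y = secAux ht n hWt i (⟨y, hy⟩ : ℳ i) := by
  have h : DirectSum.decomposeAddEquiv ℳ y = DirectSum.of (fun i => ℳ i) i ⟨y, hy⟩ := decompose_of_mem ℳ hy
  simp only [eps, AddMonoidHom.comp_apply]
  erw [h]
  rw [DirectSum.toAddMonoid_of]
  rfl

theorem eps_smul (b : A) (y : M) :
    eps ht ℳ n hWt (b • y) = scal ht W hWt b • eps ht ℳ n hWt y := by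
  induction b using DirectSum.Decomposition.inductionOn 𝒜 with
  | zero => rw [zero_smul, map_zero, map_zero, zero_smul]
  | add b b' h h' => rw [add_smul, map_add, map_add, h, h', add_smul]
  | homogeneous b =>
    rename_i p
    induction y using DirectSum.Decomposition.inductionOn ℳ with
    | zero => rw [smul_zero, map_zero, smul_zero]
    | add y y' h h' => rw [smul_add, map_add, map_add, h, h', smul_add]
    | homogeneous y =>
      rename_i i
      rw [eps_of_mem ht hWt (SetLike.GradedSMul.smul_mem b.2 y.2), eps_of_mem ht hWt y.2]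
      refine sect_ext (n := n) fun x => (secAux_val ht hWt _ _ x).trans ?_
      refine Eq.trans ?_ (GrMod.coe_smul_val n x.1 _ _).symm
      refine Eq.trans ?_ (congrArg₂ (· • ·) (scal_val ht hWt b.2 x) (secAux_val ht hWt i _ x)).symm
      rw [LocalizedModule.mk_smul_mk, LocalizedModule.mk_eq]
      refine ⟨1, ?_⟩
      simp only [one_smul, Submonoid.smul_def, Submonoid.coe_mul, smul_smul]
      congr 1
      rw [← pow_add, mul_comm (b : A), ← mul_assoc, ← mul_assoc, ← pow_add, ← pow_add]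
      congr 2
      simp only [vadd_eq_add]
      push_cast
      omega

theorem eps_surjective (hW : ∀ x : ProjectiveSpectrum 𝒜, x ∈ (W : Opens (ProjectiveSpectrum.top 𝒜)) ↔ t ∉ x.asHomogeneousIdeal)
    (s : Γ(GrMod.tilde 𝒜 ℳ n, W)) : ∃ y : M, eps ht ℳ n hWt y = s := by
  obtain ⟨K, m, a, ha, hm, hs⟩ := exists_eq_mk one_pos ht hW (show GrMod.sect 𝒜 ℳ n (op W) from s)
  refine ⟨a, ?_⟩
  rw [eps_of_mem ht hWt ha]
  refine sect_ext (n := n) fun x => (secAux_val ht hWt _ _ x).trans ((hs x).trans ?_).symm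
  have e1 : (n - (m : ℕ)).toNat = 0 := by omega
  have e2 : ((m : ℕ) - n).toNat = K := by omega
  simp only [e1, e2, pow_zero, one_smul]

theorem eps_eq_zero {i : ℕ} {y : M} (hy : y ∈ ℳ i) (hW : W = Proj.basicOpen 𝒜 t)
    (h : eps ht ℳ n hWt y = 0) : ∃ k : ℕ, t ^ k • y = 0 := by
  refine exists_pow_smul_eq_zero (𝒜 := 𝒜) one_pos hy ht fun x hx => ?_
  have hxW : x ∈ W := by subst hW; exact (Proj.mem_basicOpen _ _ _).2 hx
  rw [eps_of_mem ht hWt hy] at h
  have h1 : LocalizedModule.mk (t ^ (n - i).toNat • y) _ = (0 : GrMod.LocMod 𝒜 (M := M) x) :=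
    (secAux_val ht hWt i ⟨y, hy⟩ ⟨x, hxW⟩).symm.trans
      (congrArg (fun s : GrMod.sect 𝒜 ℳ n (op W) => (s.1 ⟨x, hxW⟩).1) h)
  obtain ⟨c, hc, hc0⟩ := (mk_eq_zero_iff _).1 h1
  exact ⟨c * t ^ (n - i).toNat, notMem_mul hc (notMem_pow hx _), by rw [← smul_smul, hc0]⟩

end Dehom

section Main

variable {A σ : Type u} [CommRing A] [SetLike σ A] [AddSubgroupClass σ A] {𝒜 : ℕ → σ} [GradedRing 𝒜]
  {B σ' : Type u} [CommRing B] [SetLike σ' B] [AddSubgroupClass σ' B] {ℬ : ℕ → σ'} [GradedRing ℬ]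
  (ψ : 𝒜 →+*ᵍ ℬ) (hψ : ℬ₊ ≤ (𝒜₊).map ψ)
  {M τ : Type u} [AddCommGroup M] [Module A M] [SetLike τ M] [AddSubgroupClass τ M]
  {ℳ : ℕ → τ} [DirectSum.Decomposition ℳ] [SetLike.GradedSMul 𝒜 ℳ]
  {N τ' : Type u} [AddCommGroup N] [Module B N] [SetLike τ' N] [AddSubgroupClass τ' N]
  {𝒩 : ℕ → τ'} [DirectSum.Decomposition 𝒩] [SetLike.GradedSMul ℬ 𝒩]
  (v : M →ₛₗ[ψ.toRingHom] N) (hv : ∀ (i : ℕ) (m : M), m ∈ ℳ i → v m ∈ 𝒩 i)

include hψ in
theorem exists_deg_one (hgen : (𝒜₊).toIdeal = Ideal.span (𝒜 1 : Set A)) (y : ProjectiveSpectrum ℬ) :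
    ∃ t ∈ 𝒜 1, ψ t ∉ y.asHomogeneousIdeal := by
  obtain ⟨t, ht, hty⟩ := Set.not_subset.1 (fun hsub =>
    (ProjectiveSpectrum.comap ψ hψ y).not_irrelevant_le fun a ha => by
      have ha' : a ∈ Ideal.span (𝒜 1 : Set A) := hgen ▸ ha
      exact Ideal.span_le.2 hsub ha')
  exact ⟨t, ht, hty⟩

theorem app_scal {t : A} (ht : t ∈ 𝒜 1)
    (hWt : Proj.map ψ hψ ⁻¹ᵁ Proj.basicOpen 𝒜 t ≤ Proj.basicOpen ℬ (ψ t)) (a : A) :
    (Proj.map ψ hψ).app (Proj.basicOpen 𝒜 t) (scal ht _ le_rfl a) = scal (ψ.map_mem ht) _ hWt (ψ a) := by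
  induction a using DirectSum.Decomposition.inductionOn 𝒜 with
  | zero => simp only [map_zero]
  | add a b h h' => simp only [map_add, h, h']
  | homogeneous a =>
    rename_i p
    refine Subtype.ext (funext fun y => HomogeneousLocalization.val_injective _ ?_)
    refine Eq.trans ?_ (scal_val (ψ.map_mem ht) hWt (ψ.map_mem a.2) y).symm
    show ((Proj.comapStructureSheaf ψ hψ _ _ Set.Subset.rfl
      (show GrTwist.O (𝒜 := 𝒜) (op (Proj.basicOpen 𝒜 t)) from scal ht _ le_rfl (a : A))).1 y).val = _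
    rw [GrTwist.comapStructureSheaf_apply, HomogeneousLocalization.val_localRingHom]
    refine (congrArg _ (scal_val ht le_rfl a.2 ⟨ProjectiveSpectrum.comap ψ hψ y.1, y.2⟩)).trans ?_
    rw [Localization.mk_eq_mk']
    erw [Localization.localRingHom_mk']
    rw [Localization.mk_eq_mk']
    congr 1
    exact Subtype.ext (map_pow ψ _ _)

theorem comap_eps {t : A} (ht : t ∈ 𝒜 1) (n : ℤ)
    (hWt : Proj.map ψ hψ ⁻¹ᵁ Proj.basicOpen 𝒜 t ≤ Proj.basicOpen ℬ (ψ t)) (m : M) :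
    (GrMod.comap ψ hψ (ℳ := ℳ) (𝒩 := 𝒩) v hv n).app (Proj.basicOpen 𝒜 t) (eps ht ℳ n le_rfl m) =
      eps (ψ.map_mem ht) 𝒩 n hWt (v m) := by
  induction m using DirectSum.Decomposition.inductionOn ℳ with
  | zero => simp only [map_zero]
  | add a b h h' => simp only [map_add, h, h']
  | homogeneous m =>
    rename_i i
    rw [eps_of_mem ht le_rfl m.2, eps_of_mem (ψ.map_mem ht) hWt (hv i _ m.2)]
    refine sect_ext (n := n) fun y => ?_
    refine Eq.trans ?_ (secAux_val (ψ.map_mem ht) hWt i _ y).symm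
    refine Eq.trans (congrArg (GrMod.locModMap ψ hψ v y.1) (secAux_val ht le_rfl i _ ⟨_, y.2⟩)) ?_
    rw [GrMod.locModMap_mk, LinearMap.map_smulₛₗ]
    congr 1
    · exact congrArg (· • v (m : M)) (map_pow ψ _ _)
    · exact Subtype.ext (map_pow ψ _ _)

theorem isIso_adjunct_comap (hgen : (𝒜₊).toIdeal = Ideal.span (𝒜 1 : Set A))
    (hbc : ∀ (Q : Type u) [AddCommGroup Q] [Module B Q] (w : M →ₛₗ[ψ.toRingHom] Q),
      ∃! g : N →ₗ[B] Q, ∀ m : M, g (v m) = w m) (n : ℤ) :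
    IsIso (((Scheme.Modules.pullbackPushforwardAdjunction (Proj.map ψ hψ)).homEquiv _ _).symm
      (GrMod.comap ψ hψ (ℳ := ℳ) (𝒩 := 𝒩) v hv n)) := by
  classical
  let f := Proj.map ψ hψ
  let G := GrMod.tilde 𝒜 ℳ n
  let P := (Scheme.Modules.pullback f).obj G
  let θ := GrMod.comap ψ hψ (ℳ := ℳ) (𝒩 := 𝒩) v hv n
  set a := ((Scheme.Modules.pullbackPushforwardAdjunction f).homEquiv _ _).symm θ with ha
  haveI : Coh.IsQCoh G := isQCoh_tilde 𝒜 ℳ n
  haveI : Coh.IsQCoh P := Groth.L16.AffineBC.isQCoh_pullback f G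
  haveI : Coh.IsQCoh (GrMod.tilde ℬ 𝒩 n) := isQCoh_tilde ℬ 𝒩 n
  rw [Groth.L21.Mod.isIso_iff_stalk_bijective]
  intro y
  obtain ⟨t, ht, hty⟩ := exists_deg_one ψ hψ hgen y
  have ht' : ψ t ∈ ℬ 1 := ψ.map_mem ht
  let V : (Proj 𝒜).Opens := Proj.basicOpen 𝒜 t
  have hmem : ∀ z : ProjectiveSpectrum ℬ, z ∈ (f ⁻¹ᵁ V : Opens (ProjectiveSpectrum.top ℬ)) ↔
      ψ t ∉ z.asHomogeneousIdeal := fun z => ProjectiveSpectrum.mem_basicOpen 𝒜 t (ProjectiveSpectrum.comap ψ hψ z)
  have hWeq : f ⁻¹ᵁ V = Proj.basicOpen ℬ (ψ t) :=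
    Opens.ext (Set.ext fun z => (hmem z).trans (Proj.mem_basicOpen ℬ _ _).symm)
  have hWt : f ⁻¹ᵁ V ≤ Proj.basicOpen ℬ (ψ t) := hWeq.le
  have hWaff : IsAffineOpen (f ⁻¹ᵁ V) := hWeq ▸ Proj.isAffineOpen_basicOpen ℬ (ψ t) ht' one_pos
  refine stalk_bijective_of_app_bijective a hWaff ?_ ((hmem y).2 hty)
  letI : Module B Γ(P, f ⁻¹ᵁ V) := Module.compHom _ (scal ht' _ hWt)
  letI : Module B Γ(GrMod.tilde ℬ 𝒩 n, f ⁻¹ᵁ V) := Module.compHom _ (scal ht' _ hWt)
  let w : M →ₛₗ[ψ.toRingHom] Γ(P, f ⁻¹ᵁ V) :=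
    { toFun := fun m => pull f G V (eps ht ℳ n le_rfl m)
      map_add' := fun x z => by
        rw [map_add]
        exact map_add (((Scheme.Modules.pullbackPushforwardAdjunction f).unit.app G).app V).hom _ _
      map_smul' := fun c m => by
        rw [eps_smul ht le_rfl, pull_smul, app_scal ψ hψ ht hWt]
        rfl }
  obtain ⟨g, hg, -⟩ := hbc _ w
  let av : Γ(P, f ⁻¹ᵁ V) →ₗ[B] Γ(GrMod.tilde ℬ 𝒩 n, f ⁻¹ᵁ V) :=
    { toFun := fun q => a.app _ q
      map_add' := fun x z => map_add _ x z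
      map_smul' := fun c q => a.app_smul (scal ht' _ hWt c) q }
  let εN : N →ₗ[B] Γ(GrMod.tilde ℬ 𝒩 n, f ⁻¹ᵁ V) :=
    { toFun := eps ht' 𝒩 n hWt
      map_add' := fun x z => map_add _ x z
      map_smul' := fun c z => eps_smul ht' hWt c z }
  have hpull : ∀ s : Γ(G, V), a.app (f ⁻¹ᵁ V) (pull f G V s) = θ.app V s := by
    intro s
    have h1 : (Scheme.Modules.pullbackPushforwardAdjunction f).unit.app G ≫ (Scheme.Modules.pushforward f).map a = θ :=
      (Adjunction.homEquiv_unit _ _ _ _).symm.trans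
        (((Scheme.Modules.pullbackPushforwardAdjunction f).homEquiv _ _).apply_symm_apply θ)
    exact congr($(h1).app V s)
  have key : ∀ z : N, a.app (f ⁻¹ᵁ V) (g z) = eps ht' 𝒩 n hWt z := by
    obtain ⟨g', -, hu⟩ := hbc _ (av.comp w)
    have e : av.comp g = εN :=
      (hu _ fun m => congrArg av (hg m)).trans (hu εN fun m =>
        ((hpull _).trans (comap_eps ψ hψ v hv ht n hWt m)).symm).symm
    exact fun z => LinearMap.congr_fun e z
  have gsurj : ∀ q : Γ(P, f ⁻¹ᵁ V), ∃ z : N, g z = q := by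
    intro q
    letI : Algebra Γ(Proj 𝒜, V) Γ(Proj ℬ, f ⁻¹ᵁ V) := (f.appLE V (f ⁻¹ᵁ V) le_rfl).hom.toAlgebra
    letI : Module Γ(Proj 𝒜, V) Γ(P, f ⁻¹ᵁ V) := Module.compHom _ (f.appLE V (f ⁻¹ᵁ V) le_rfl).hom
    haveI : IsScalarTower Γ(Proj 𝒜, V) Γ(Proj ℬ, f ⁻¹ᵁ V) Γ(P, f ⁻¹ᵁ V) :=
      IsScalarTower.of_algebraMap_smul fun _ _ => rfl
    induction q using (Groth.L16.AffineBC.isBaseChange_pull f G
      (Proj.isAffineOpen_basicOpen 𝒜 t ht one_pos) hWaff le_rfl).inductionOn with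
    | zero => exact ⟨0, map_zero g⟩
    | tmul s =>
      obtain ⟨m, rfl⟩ := eps_surjective ht le_rfl (fun x => Proj.mem_basicOpen 𝒜 t x) s
      refine ⟨v m, ?_⟩
      show g (v m) = rs P le_rfl (pull f G V (eps ht ℳ n le_rfl m))
      rw [rs_self]
      exact hg m
    | smul c q h =>
      obtain ⟨z, rfl⟩ := h
      obtain ⟨b, hb⟩ : ∃ b : B, scal ht' (f ⁻¹ᵁ V) hWt b = c := by
        clear * - hWeq
        revert hWt c
        rw [hWeq]
        exact fun _ c => scal_surjective ht' c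
      exact ⟨b • z, by rw [map_smul, ← hb]; rfl⟩
    | add q q' h h' =>
      obtain ⟨z, rfl⟩ := h
      obtain ⟨z', rfl⟩ := h'
      exact ⟨z + z', map_add g z z'⟩
  refine ⟨(injective_iff_map_eq_zero (a.app (f ⁻¹ᵁ V)).hom).2 fun q hq => ?_, fun s => ?_⟩
  · obtain ⟨z, rfl⟩ := gsurj q
    have ht1 : scal ht' (f ⁻¹ᵁ V) hWt (ψ t) = 1 := by
      refine Subtype.ext (funext fun x => HomogeneousLocalization.val_injective _ ?_)
      refine (scal_val ht' hWt ht' x).trans (Eq.trans ?_ (HomogeneousLocalization.val_one).symm)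
      rw [← Localization.mk_self ⟨ψ t, notMem_of_mem hWt x⟩]
      congr 1
      exact Subtype.ext (pow_one _)
    have hgt : ∀ (k : ℕ) (z : N), g (ψ t ^ k • z) = g z := fun k z => by
      rw [map_smul]
      show scal ht' (f ⁻¹ᵁ V) hWt (ψ t ^ k) • g z = g z
      rw [map_pow, ht1, one_pow, one_smul]
    let s := (decompose 𝒩 z).support
    let K := s.sup id
    let z' : N := ∑ i ∈ s, ψ t ^ (K - i) • (decompose 𝒩 z i : N)
    have hz' : z' ∈ 𝒩 K := sum_mem fun i hi => by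
      have := SetLike.GradedSMul.smul_mem (SetLike.pow_mem_graded (K - i) ht') (SetLike.coe_mem (decompose 𝒩 z i))
      rwa [vadd_eq_add, smul_eq_mul, mul_one, Nat.sub_add_cancel (show i ≤ K from Finset.le_sup (f := id) hi)] at this
    have e : g z' = g z := by
      rw [map_sum, Finset.sum_congr rfl fun i _ => hgt _ _, ← map_sum, DirectSum.sum_support_decompose]
    rw [← e] at hq ⊢
    obtain ⟨k, hk⟩ := eps_eq_zero ht' hWt hz' hWeq ((key z').symm.trans hq)
    rw [← hgt k z', hk, map_zero]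
  · obtain ⟨z, hz⟩ := eps_surjective ht' hWt hmem s
    exact ⟨g z, (key z).trans hz⟩

end Main

end Groth.L18.GrM.BCI
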