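import Groth.Prelude.Def_GrMod3
import Mathlib.AlgebraicGeometry.ProjectiveSpectrum.Basic
import Mathlib.RingTheory.GradedAlgebra.Radical

/-!
# Charts of `Proj` of a ring graded by additive subgroups
-/

set_option autoImplicit false
universe u

open CategoryTheory AlgebraicGeometry TopologicalSpace Opposite

noncomputable section

namespace Groth.L18.GrM

variable {A σ : Type u} [CommRing A] [SetLike σ A] [AddSubgroupClass σ A] {𝒜 : ℕ → σ} [GradedRing 𝒜]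
  {n : ℤ} {d : ℕ}

lemma notMem_pow {x : ProjectiveSpectrum 𝒜} {f : A} (hf : f ∉ x.asHomogeneousIdeal) (k : ℕ) :
    f ^ k ∉ x.asHomogeneousIdeal := fun h => hf (x.isPrime.mem_of_pow_mem k h)

lemma notMem_mul {x : ProjectiveSpectrum 𝒜} {f g : A} (hf : f ∉ x.asHomogeneousIdeal)
    (hg : g ∉ x.asHomogeneousIdeal) : f * g ∉ x.asHomogeneousIdeal := fun h =>
  (x.isPrime.mem_or_mem h).elim hf hg

variable (𝒜) in
lemma mem_radical_span {ι : Type*} (H : ι → A) (e : ι → ℕ) (hH : ∀ i, H i ∈ 𝒜 (e i)) {h : A}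
    (hd : 0 < d) (hh : h ∈ 𝒜 d)
    (hcov : ∀ x : ProjectiveSpectrum 𝒜, h ∉ x.asHomogeneousIdeal → ∃ i, H i ∉ x.asHomogeneousIdeal) :
    h ∈ (Ideal.span (Set.range H)).radical := by
  have hI : (Ideal.span (Set.range H)).IsHomogeneous 𝒜 :=
    Ideal.homogeneous_span 𝒜 _ (by rintro _ ⟨i, rfl⟩; exact ⟨e i, hH i⟩)
  rw [hI.radical_eq, Submodule.mem_sInf]
  rintro J ⟨hJ, hIJ, hJp⟩
  by_contra hJh
  let x : ProjectiveSpectrum 𝒜 := ⟨⟨J, hJ⟩, hJp, fun hle => hJh (hle ((HomogeneousIdeal.mem_irrelevant_iff _ _).2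
    (by rw [GradedRing.proj_apply, DirectSum.decompose_of_mem_ne 𝒜 hh hd.ne'])))⟩
  obtain ⟨i, hi⟩ := hcov x hJh
  exact hi (hIJ (Ideal.subset_span ⟨i, rfl⟩))

lemma exists_pow_degree (hd : 0 < d) (n : ℤ) : ∃ P : ℕ, 0 < P ∧ 0 ≤ (P * d : ℕ) + n := by
  refine ⟨n.natAbs + 1, Nat.succ_pos _, ?_⟩
  have h1 : n.natAbs + 1 ≤ (n.natAbs + 1) * d := Nat.le_mul_of_pos_right _ hd
  have h2 : ((n.natAbs + 1 : ℕ) : ℤ) ≤ (((n.natAbs + 1) * d : ℕ) : ℤ) := by exact_mod_cast h1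
  omega

section Chart

variable {f : A} (hd : 0 < d) (hf : f ∈ 𝒜 d)

lemma awayToSection_topIso :
    Proj.awayToSection 𝒜 f ≫ (Proj.basicOpen 𝒜 f).topIso.inv ≫
      (Proj.basicOpenIsoSpec 𝒜 f hf hd).inv.appTop = (Scheme.ΓSpecIso _).inv := by
  have h : (Proj.basicOpenIsoSpec 𝒜 f hf hd).hom.appTop = (Scheme.ΓSpecIso _).hom ≫
      Proj.awayToSection 𝒜 f ≫ (Proj.basicOpen 𝒜 f).topIso.inv := by
    rw [Proj.basicOpenIsoSpec_hom]; exact Proj.basicOpenToSpec_app_top 𝒜 f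
  rw [← Category.assoc, ← (Iso.inv_comp_eq _).2 h, Category.assoc, ← Scheme.Hom.comp_appTop,
    Iso.inv_hom_id, Scheme.Hom.id_appTop]
  exact Category.comp_id _

lemma image_le (U : (Spec (.of (HomogeneousLocalization.Away 𝒜 f))).Opens) :
    Proj.awayι 𝒜 f hf hd ''ᵁ U ≤ Proj.basicOpen 𝒜 f :=
  (Scheme.Hom.image_le_opensRange _ _).trans_eq (Proj.opensRange_awayι 𝒜 f hf hd)

/-- Scalars of the chart. -/
lemma appIso_inv_scalar (U : (Spec (.of (HomogeneousLocalization.Away 𝒜 f))).Opens)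
    (r : HomogeneousLocalization.Away 𝒜 f) :
    ((Proj.awayι 𝒜 f hf hd).appIso U).inv
      ((Spec (.of (HomogeneousLocalization.Away 𝒜 f))).presheaf.map U.leTop.op
        ((Scheme.ΓSpecIso (.of (HomogeneousLocalization.Away 𝒜 f))).inv r)) =
      (Proj 𝒜).presheaf.map (homOfLE (image_le hd hf U)).op (Proj.awayToSection 𝒜 f r) := by
  have key : Proj.awayToSection 𝒜 f ≫ (Proj 𝒜).presheaf.map (homOfLE (image_le hd hf U)).op ≫
      ((Proj.awayι 𝒜 f hf hd).appIso U).hom =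
      (Scheme.ΓSpecIso (.of (HomogeneousLocalization.Away 𝒜 f))).inv ≫
        (Spec (.of (HomogeneousLocalization.Away 𝒜 f))).presheaf.map U.leTop.op := by
    rw [Scheme.Hom.appIso_hom', Scheme.Hom.map_appLE,
      ← awayToSection_topIso hd hf, Category.assoc, Category.assoc]
    congr 1
    have e1 : (Proj.basicOpen 𝒜 f).topIso.inv =
        (Proj.basicOpen 𝒜 f).ι.appLE (Proj.basicOpen 𝒜 f) ⊤ (fun x _ => x.2) := by
      rw [Scheme.Opens.ι_appLE, Scheme.Opens.topIso_inv]; rfl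
    have e2 : (Proj.basicOpenIsoSpec 𝒜 f hf hd).inv.appTop ≫
        (Spec (.of (HomogeneousLocalization.Away 𝒜 f))).presheaf.map U.leTop.op =
        (Proj.basicOpenIsoSpec 𝒜 f hf hd).inv.appLE ⊤ U le_top := rfl
    rw [e1, e2, Scheme.Hom.appLE_comp_appLE]
    rfl
  have := congrArg (fun φ : CommRingCat.of (HomogeneousLocalization.Away 𝒜 f) ⟶
    Γ(Spec (.of (HomogeneousLocalization.Away 𝒜 f)), U) => ((Proj.awayι 𝒜 f hf hd).appIso U).inv (φ r)) key
  refine this.symm.trans ?_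
  exact Iso.hom_inv_id_apply ((Proj.awayι 𝒜 f hf hd).appIso U) _

/-- An element of the chart ring, typed in `CommRingCat`. -/
noncomputable abbrev sc (k : ℕ) (a : A) (ha : a ∈ 𝒜 (k • d)) :
    (CommRingCat.of (HomogeneousLocalization.Away 𝒜 f) : CommRingCat) :=
  HomogeneousLocalization.Away.mk 𝒜 hf k a ha

lemma mem_image_basicOpen (k : ℕ) (a : A) (ha : a ∈ 𝒜 (k • d)) (x : ProjectiveSpectrum 𝒜) :
    x ∈ (Proj.awayι 𝒜 f hf hd ''ᵁ PrimeSpectrum.basicOpen (HomogeneousLocalization.Away.mk 𝒜 hf k a ha) :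
      Opens (ProjectiveSpectrum.top 𝒜)) ↔ f * a ∉ x.asHomogeneousIdeal := by
  let g := HomogeneousLocalization.Away.mk 𝒜 hf k a ha
  have e : Proj.awayι 𝒜 f hf hd ''ᵁ PrimeSpectrum.basicOpen g = (Proj 𝒜).basicOpen (Proj.awayToSection 𝒜 f g) := by
    rw [← basicOpen_eq_of_affine (R := .of (HomogeneousLocalization.Away 𝒜 f)) g,
      Scheme.image_basicOpen]
    have h2 := appIso_inv_scalar hd hf ⊤ g
    rw [Subsingleton.elim ((⊤ : (Spec (.of (HomogeneousLocalization.Away 𝒜 f))).Opens).leTop) (𝟙 _)] at h2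
    simp only [op_id, CategoryTheory.Functor.map_id, CommRingCat.id_apply] at h2
    rw [h2, Scheme.basicOpen_res]
    refine inf_eq_right.2 (((Proj 𝒜).basicOpen_le _).trans_eq ?_)
    rw [Scheme.Hom.image_top_eq_opensRange, Proj.opensRange_awayι]
  change x ∈ Proj.awayι 𝒜 f hf hd ''ᵁ PrimeSpectrum.basicOpen g ↔ _
  rw [e]
  constructor
  · intro hx
    have hxf : f ∉ x.asHomogeneousIdeal :=
      (Proj.mem_basicOpen _ _ _).1 ((Proj 𝒜).basicOpen_le _ hx)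
    have hu := (Scheme.mem_basicOpen (Proj 𝒜) (Proj.awayToSection 𝒜 f g) x
      ((Proj.mem_basicOpen _ _ _).2 hxf)).1 hx
    have hu' := hu.map (Proj.stalkIso' 𝒜 x)
    erw [Proj.stalkIso'_germ] at hu'
    have hu'' := hu'.map (algebraMap (GrTwist.A0 𝒜 x) (GrTwist.Loc 𝒜 x))
    rw [HomogeneousLocalization.algebraMap_apply] at hu''
    erw [ProjectiveSpectrum.Proj.awayToSection_apply 𝒜 f g ⟨x, (Proj.mem_basicOpen _ _ _).2 hxf⟩] at hu''
    rw [HomogeneousLocalization.Away.val_mk, Localization.mk_eq_mk', IsLocalization.map_mk'] at hu''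
    refine notMem_mul hxf fun hax => ?_
    exact ((IsLocalization.AtPrime.isUnit_mk'_iff (S := GrTwist.Loc 𝒜 x) x.asHomogeneousIdeal.toIdeal _ _).1 hu'') hax
  · intro hx
    have hxf : f ∉ x.asHomogeneousIdeal := fun h => hx (x.asHomogeneousIdeal.toIdeal.mul_mem_right _ h)
    have hxa : a ∉ x.asHomogeneousIdeal := fun h => hx (x.asHomogeneousIdeal.toIdeal.mul_mem_left _ h)
    refine (Scheme.mem_basicOpen (Proj 𝒜) (Proj.awayToSection 𝒜 f g) x
      ((Proj.mem_basicOpen _ _ _).2 hxf)).2 ((MulEquiv.isUnit_map (Proj.stalkIso' 𝒜 x)).1 ?_)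
    erw [Proj.stalkIso'_germ]
    refine (HomogeneousLocalization.isUnit_iff_isUnit_val _ _ _).1 ?_
    erw [ProjectiveSpectrum.Proj.awayToSection_apply 𝒜 f g ⟨x, (Proj.mem_basicOpen _ _ _).2 hxf⟩]
    rw [HomogeneousLocalization.Away.val_mk, Localization.mk_eq_mk', IsLocalization.map_mk']
    exact (IsLocalization.AtPrime.isUnit_mk'_iff (S := GrTwist.Loc 𝒜 x) x.asHomogeneousIdeal.toIdeal _ _).2 hxa

end Chart

end Groth.L18.GrM
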