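import Groth.Agent.L18.GrMod.CoeffBaseChange
import Groth.Agent.L18.ConeMaps
import Groth.Agent.L18.RelProj.Localization

/-!
# The pull back map of twisting sheaves along an eventually bijective graded homomorphism
-/

set_option autoImplicit false
set_option linter.style.haveILetI false
set_option backward.isDefEq.respectTransparency false
set_option backward.isDefEq.respectTransparency.types false
universe u

open CategoryTheory CategoryTheory.Limits AlgebraicGeometry TopologicalSpace Opposite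
open scoped HomogeneousIdeal

noncomputable section

namespace Groth.L18.GrM.CE

variable {A σ : Type u} [CommRing A] [SetLike σ A] [AddSubgroupClass σ A] {𝒜 : ℕ → σ} [GradedRing 𝒜]
  {B σ' : Type u} [CommRing B] [SetLike σ' B] [AddSubgroupClass σ' B] {ℬ : ℕ → σ'} [GradedRing ℬ]
  (ψ : 𝒜 →+*ᵍ ℬ) (hψ : ℬ₊ ≤ (𝒜₊).map ψ) (d₀ : ℕ) (hbij : ∀ d : ℕ, d₀ ≤ d → Set.BijOn ψ (𝒜 d) (ℬ d))

include hbij in
theorem isIso_comap (n : ℤ) :
    IsIso (GrMod.comap ψ hψ (ℳ := 𝒜) (𝒩 := ℬ) (CBC.self ψ) (CBC.self_mem ψ) n) := by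
  classical
  have hmemA : ∀ f : A, ∀ x, x ∈ ProjectiveSpectrum.basicOpen 𝒜 f ↔ f ∉ x.asHomogeneousIdeal := fun f x =>
    ProjectiveSpectrum.mem_basicOpen 𝒜 f x
  have hmemB : ∀ (f : A) y, y ∈ (ProjectiveSpectrum.basicOpen 𝒜 f).comap
      ⟨ProjectiveSpectrum.comap ψ hψ, (Proj.map ψ hψ).continuous⟩ ↔ ψ f ∉ y.asHomogeneousIdeal := fun f y =>
    ProjectiveSpectrum.mem_basicOpen 𝒜 f (ProjectiveSpectrum.comap ψ hψ y)
  refine isIso_of_local _ (fun V s hs => ?_) fun V x hxV t => ?_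
  · refine sect_ext (n := n) fun x => ?_
    obtain ⟨d, f, hd, hf, hfx, hfV⟩ := exists_basicOpen_le (𝒜 := 𝒜) x.2
    obtain ⟨K, m, a, ha, hm, hsa⟩ := exists_eq_mk hd hf (hmemA f)
      (GrMod.res 𝒜 𝒜 n (homOfLE hfV).op (show GrMod.sect 𝒜 𝒜 n (op V) from s))
    obtain ⟨N', hN⟩ := pow_smul_eq_zero hd (ψ.map_mem hf) K
      (⟨CBC.self ψ a, CBC.self_mem ψ m a ha⟩ : ℬ m) fun y hy => by
      have hy' : ψ f ∉ y.1.asHomogeneousIdeal := (ProjectiveSpectrum.mem_basicOpen ℬ _ _).1 y.2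
      have hyD : ProjectiveSpectrum.comap ψ hψ y.1 ∈ ProjectiveSpectrum.basicOpen 𝒜 f := (hmemB f y.1).2 hy'
      refine Eq.trans ?_ (congrArg (fun r : GrMod.sect ℬ ℬ n (op (Proj.map ψ hψ ⁻¹ᵁ V)) =>
        (r.1 ⟨y.1, hfV hyD⟩).1) hs)
      refine Eq.trans ?_ (congrArg (GrMod.locModMap ψ hψ (CBC.self ψ) y.1) (hsa ⟨_, hyD⟩)).symm
      rw [GrMod.locModMap_mk]
      congr 1
      exact Subtype.ext (map_pow ψ f K).symm
    have hmem : f ^ (N' + d₀) • a ∈ 𝒜 ((N' + d₀) • d + m) :=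
      SetLike.GradedSMul.smul_mem (SetLike.pow_mem_graded _ hf) ha
    have hle : d₀ ≤ (N' + d₀) • d + m := by
      rw [smul_eq_mul]
      exact le_add_right ((Nat.le_add_left d₀ N').trans (Nat.le_mul_of_pos_right _ hd))
    have hNa : f ^ (N' + d₀) • a = 0 := (hbij _ hle).injOn hmem (zero_mem _) (by
      have hN' : ψ f ^ N' * ψ a = 0 := hN
      rw [smul_eq_mul, map_mul, map_pow, pow_add, mul_right_comm, hN', zero_mul, map_zero])
    exact (hsa ⟨x.1, (hmemA f x.1).2 hfx⟩).trans ((mk_eq_zero_iff _).2 ⟨f ^ (N' + d₀), notMem_pow hfx _, hNa⟩)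
  · obtain ⟨d, f, hd, hf, hfx, hfV⟩ := exists_basicOpen_le (𝒜 := 𝒜) hxV
    have hle : (ProjectiveSpectrum.basicOpen 𝒜 f).comap
        ⟨ProjectiveSpectrum.comap ψ hψ, (Proj.map ψ hψ).continuous⟩ ≤ Proj.map ψ hψ ⁻¹ᵁ V := fun y hy => hfV hy
    obtain ⟨K, m, b, hb, hm, htb⟩ := exists_eq_mk hd (ψ.map_mem hf) (hmemB f)
      (GrMod.res ℬ ℬ n (homOfLE hle).op (show GrMod.sect ℬ ℬ n (op (Proj.map ψ hψ ⁻¹ᵁ V)) from t))
    have hge : d₀ ≤ d₀ • d + m := by
      rw [smul_eq_mul]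
      exact le_add_right (Nat.le_mul_of_pos_right _ hd)
    obtain ⟨a, ha, hab⟩ := (hbij _ hge).surjOn
      (show ψ f ^ d₀ • b ∈ ℬ (d₀ • d + m) from SetLike.GradedSMul.smul_mem (SetLike.pow_mem_graded _ (ψ.map_mem hf)) hb)
    refine ⟨ProjectiveSpectrum.basicOpen 𝒜 f, homOfLE hfV, (hmemA f x).2 hfx,
      gen (⟨a, ha⟩ : 𝒜 (d₀ • d + m)) (⟨f ^ (d₀ + K), SetLike.pow_mem_graded _ hf⟩ : 𝒜 ((d₀ + K) • d))
        (by push_cast [smul_eq_mul] at hm ⊢; linear_combination hm) _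
        fun y => notMem_pow ((hmemA f y.1).1 y.2) _, sect_ext (n := n) fun y => ?_⟩
    refine Eq.trans ?_ (htb y).symm
    show GrMod.locModMap ψ hψ (CBC.self ψ) y.1 (LocalizedModule.mk a ⟨f ^ (d₀ + K), _⟩) = _
    rw [GrMod.locModMap_mk, LocalizedModule.mk_eq]
    refine ⟨1, ?_⟩
    simp only [one_smul, Submonoid.smul_def, CBC.self_apply, smul_eq_mul]
    show ψ f ^ K * ψ a = ψ (f ^ (d₀ + K)) * b
    rw [hab, map_pow, smul_eq_mul, pow_add]
    ring

/-- Along an isomorphism, the adjunct of an isomorphism is an isomorphism. -/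
theorem isIso_adjunct_of_isIso {X Y : Scheme.{u}} (f : X ⟶ Y) [IsOpenImmersion f] {M : Y.Modules} {N : X.Modules}
    (θ : M ⟶ (Scheme.Modules.pushforward f).obj N) [IsIso θ] :
    IsIso (((Scheme.Modules.pullbackPushforwardAdjunction f).homEquiv M N).symm θ) := by
  rw [Adjunction.homEquiv_counit]
  infer_instance

end Groth.L18.GrM.CE

namespace Groth.L18.GrM.CE

variable {R A B : Type u} [CommRing R] [CommRing A] [Algebra R A] {𝒜 : ℕ → Submodule R A} [GradedAlgebra 𝒜]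
  [CommRing B] [Algebra R B] {ℬ : ℕ → Submodule R B} [GradedAlgebra ℬ]
  (ψ : 𝒜 →+*ᵍ ℬ) (hψ : ℬ₊ ≤ (𝒜₊).map ψ) (d₀ : ℕ) (hbij : ∀ d : ℕ, d₀ ≤ d → Set.BijOn ψ (𝒜 d) (ℬ d))

include hbij in
theorem isIso_map : IsIso (Proj.map ψ hψ) :=
  Groth.L18.RPLoc.map_property ψ hψ (MorphismProperty.isomorphisms Scheme.{u}) fun i hi s hs => by
    have hb : Function.Bijective (HomogeneousLocalization.Away.map ψ s) :=
      ⟨Groth.L18.Cones.away_map_injective_of_eventually ψ hi hs d₀ hbij,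
        Groth.L18.Cones.away_map_surjective_of_eventually ψ hi hs d₀ hbij⟩
    have : IsIso (CommRingCat.ofHom (HomogeneousLocalization.Away.map ψ s)) :=
      (ConcreteCategory.isIso_iff_bijective _).mpr hb
    exact MorphismProperty.isomorphisms.infer_property _

include hbij in
theorem isIso_adjunct (n : ℤ) :
    IsIso (((Scheme.Modules.pullbackPushforwardAdjunction (Proj.map ψ hψ)).homEquiv _ _).symm
      (GrTwist.comap ψ hψ n)) := by
  haveI := isIso_map ψ hψ d₀ hbij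
  rw [CBC.comap_twist_eq ψ hψ n]
  haveI := isIso_comap ψ hψ d₀ hbij n
  exact isIso_adjunct_of_isIso (Proj.map ψ hψ)
    (GrMod.comap ψ hψ (ℳ := 𝒜) (𝒩 := ℬ) (CBC.self ψ) (CBC.self_mem ψ) n)

end Groth.L18.GrM.CE
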