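import Groth.Agent.L18.GrMod.Map

/-!
# Exactness of `M ↦ M(n)~` on sections over basic opens
-/

set_option autoImplicit false
universe u

open CategoryTheory CategoryTheory.Limits AlgebraicGeometry TopologicalSpace Opposite

noncomputable section

namespace Groth.L18.GrM

variable {A σ : Type u} [CommRing A] [SetLike σ A] [AddSubgroupClass σ A] {𝒜 : ℕ → σ} [GradedRing 𝒜]
variable {M τ : Type u} [AddCommGroup M] [Module A M] [SetLike τ M] [AddSubgroupClass τ M]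
  {ℳ : ℕ → τ} [DirectSum.Decomposition ℳ] [SetLike.GradedSMul 𝒜 ℳ] {n : ℤ}
variable {N τ' : Type u} [AddCommGroup N] [Module A N] [SetLike τ' N] [AddSubgroupClass τ' N]
  {𝒩 : ℕ → τ'} [DirectSum.Decomposition 𝒩] [SetLike.GradedSMul 𝒜 𝒩]
variable {L τ'' : Type u} [AddCommGroup L] [Module A L] [SetLike τ'' L] [AddSubgroupClass τ'' L]
  {ℒ : ℕ → τ''} [DirectSum.Decomposition ℒ] [SetLike.GradedSMul 𝒜 ℒ]

theorem exact_app_basicOpen (u : M →ₗ[A] N) (hu : ∀ (i : ℕ) (m : M), m ∈ ℳ i → u m ∈ 𝒩 i)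
    (v : N →ₗ[A] L) (hv : ∀ (i : ℕ) (m : N), m ∈ 𝒩 i → v m ∈ ℒ i) (hex : Function.Exact u v) {d : ℕ} (hd : 0 < d)
    {f : A} (hf : f ∈ 𝒜 d) :
    Function.Exact (GrMod.mapApp u hu n (op (ProjectiveSpectrum.basicOpen 𝒜 f)) :
        GrMod.sect 𝒜 ℳ n (op (ProjectiveSpectrum.basicOpen 𝒜 f)) → _)
      (GrMod.mapApp v hv n (op (ProjectiveSpectrum.basicOpen 𝒜 f))) := by
  classical
  have hmem : ∀ x, x ∈ ProjectiveSpectrum.basicOpen 𝒜 f ↔ f ∉ x.asHomogeneousIdeal := fun x =>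
    ProjectiveSpectrum.mem_basicOpen 𝒜 f x
  intro t
  constructor
  · intro ht
    obtain ⟨K, m, a, ha, hm, ht'⟩ := exists_eq_mk hd hf hmem t
    obtain ⟨N', hN⟩ := pow_smul_eq_zero hd hf K (⟨v a, hv m a ha⟩ : ℒ m) fun x hx => by
      refine Eq.trans ?_ (congrArg (fun r : GrMod.sect 𝒜 ℒ n (op (ProjectiveSpectrum.basicOpen 𝒜 f)) => (r.1 x).1) ht)
      refine Eq.trans ?_ (congrArg (GrMod.locMap v x.1) (ht' x)).symm
      rw [GrMod.locMap_mk]
    obtain ⟨q, hq⟩ := (hex (f ^ N' • a)).1 (by rw [map_smul]; exact hN)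
    have hfa : f ^ N' • a ∈ 𝒩 (N' • d + m) := SetLike.GradedSMul.smul_mem (SetLike.pow_mem_graded _ hf) ha
    let q' : M := DirectSum.decompose ℳ q (N' • d + m)
    have hq' : u q' = f ^ N' • a := by rw [component_map u hu, hq, DirectSum.decompose_of_mem_same 𝒩 hfa]
    refine ⟨gen (⟨q', SetLike.coe_mem _⟩ : ℳ (N' • d + m))
      (⟨f ^ (N' + K), SetLike.pow_mem_graded _ hf⟩ : 𝒜 ((N' + K) • d))
      (by simp only [smul_eq_mul] at *; push_cast at *; linarith) _ fun x => notMem_pow ((hmem x.1).1 x.2) _,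
      sect_ext fun x => ?_⟩
    show GrMod.locMap u x.1 (LocalizedModule.mk q' ⟨f ^ (N' + K), _⟩) = (t.1 x).1
    rw [GrMod.locMap_mk, hq', ht' x, LocalizedModule.mk_eq]
    refine ⟨1, ?_⟩
    simp only [one_smul, Submonoid.smul_def, smul_smul, ← pow_add, add_comm]
  · rintro ⟨s, rfl⟩
    refine sect_ext fun x => ?_
    show GrMod.locMap v x.1 (GrMod.locMap u x.1 (s.1 x).1) = 0
    generalize (s.1 x).1 = q
    induction q using LocalizedModule.induction_on with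
    | h m w => erw [GrMod.locMap_mk, GrMod.locMap_mk]; rw [hex.apply_apply_eq_zero, LocalizedModule.zero_mk]

end Groth.L18.GrM
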