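import Groth.Agent.L18.GrMod.Map

/-!
# Finiteness of `M~` on a chart `D₊(t)`, `deg t = 1`
-/

set_option autoImplicit false
universe u

open CategoryTheory AlgebraicGeometry TopologicalSpace Opposite

noncomputable section

namespace Groth.L18.GrM

variable {A σ : Type u} [CommRing A] [SetLike σ A] [AddSubgroupClass σ A] {𝒜 : ℕ → σ} [GradedRing 𝒜]
variable {M τ : Type u} [AddCommGroup M] [Module A M] [SetLike τ M] [AddSubgroupClass τ M]
  {ℳ : ℕ → τ} [DirectSum.Decomposition ℳ] [SetLike.GradedSMul 𝒜 ℳ]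
  {t : A} (ht : t ∈ 𝒜 1)

/-- The fraction `a / t ^ Q` on the chart. -/
def sec (Q : ℕ) (a : M) (ha : a ∈ ℳ Q) : Γ(chartMod (ℳ := ℳ) 0 one_pos ht, ⊤) :=
  gen (n := 0) (⟨a, ha⟩ : ℳ Q) (⟨t ^ Q, by simpa using SetLike.pow_mem_graded Q ht⟩ : 𝒜 Q)
    (by simp) (Proj.awayι 𝒜 t ht one_pos ''ᵁ ⊤) fun x =>
      notMem_pow ((Proj.mem_basicOpen _ _ _).1 (image_le one_pos ht ⊤ x.2)) Q

lemma sec_val (Q : ℕ) (a : M) (ha : a ∈ ℳ Q)
    (x : (Proj.awayι 𝒜 t ht one_pos ''ᵁ ⊤ : Opens (ProjectiveSpectrum.top 𝒜))) :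
    ((toFun' 0 one_pos ht (sec ht Q a ha)).1 x).1 = LocalizedModule.mk a ⟨t ^ Q,
      notMem_pow ((Proj.mem_basicOpen _ _ _).1 (image_le one_pos ht ⊤ x.2)) Q⟩ := rfl

lemma sec_add (Q : ℕ) (a b : M) (ha : a ∈ ℳ Q) (hb : b ∈ ℳ Q) :
    sec ht Q (a + b) (add_mem ha hb) = sec ht Q a ha + sec ht Q b hb := by
  refine sect_ext (n := 0) fun x => ?_
  refine (sec_val ht Q _ (add_mem ha hb) x).trans (Eq.trans ?_
    (congrArg₂ (· + ·) (sec_val ht Q a ha x) (sec_val ht Q b hb x)).symm)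
  rw [LocalizedModule.mk_add_mk, LocalizedModule.mk_eq]
  exact ⟨1, by simp [Submonoid.smul_def, smul_add, smul_smul]⟩

lemma sec_zero (Q : ℕ) : sec (ℳ := ℳ) ht Q 0 (zero_mem _) = 0 :=
  sect_ext (n := 0) fun x => (LocalizedModule.zero_mk _ : _)

theorem finite_chartMod (hTF : ∃ n : ℕ, (Submodule.span A (⋃ k ∈ Set.Ici n, (ℳ k : Set M))).FG) :
    Module.Finite (HomogeneousLocalization.Away 𝒜 t) Γ(chartMod (ℳ := ℳ) 0 one_pos ht, ⊤) := by
  classical
  obtain ⟨n₀, hn₀⟩ := hTF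
  obtain ⟨G, hG, hspan⟩ := (Submodule.fg_span_iff_fg_span_finset_subset _).1 hn₀
  choose! ε hε hεm using fun g (hg : g ∈ G) => Set.mem_iUnion₂.1 (hG hg)
  let gs : G → Γ(chartMod (ℳ := ℳ) 0 one_pos ht, ⊤) := fun g => sec ht (ε g.1) g.1 (hεm g.1 g.2)
  let S := Submodule.span (HomogeneousLocalization.Away 𝒜 t) (Set.range gs)
  refine ⟨⟨Finset.univ.image gs, top_le_iff.1 fun s _ => ?_⟩⟩
  rw [Finset.coe_image, Finset.coe_univ, Set.image_univ]
  obtain ⟨K, m, a, ha, hm, hs⟩ := exists_eq_mk one_pos ht (U := Proj.awayι 𝒜 t ht one_pos ''ᵁ ⊤)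
    (fun x => by
      change x ∈ Proj.awayι 𝒜 t ht one_pos ''ᵁ ⊤ ↔ _
      rw [Scheme.Hom.image_top_eq_opensRange, Proj.opensRange_awayι]
      exact Proj.mem_basicOpen _ _ _) (toFun' 0 one_pos ht s)
  let Q := n₀ + K
  have hfa : t ^ n₀ • a ∈ ℳ Q := by
    have h0 : t ^ n₀ ∈ 𝒜 n₀ := by simpa using SetLike.pow_mem_graded n₀ ht
    have := SetLike.GradedSMul.smul_mem h0 ha
    rwa [vadd_eq_add, show m = K by omega] at this
  obtain ⟨c, -, hc⟩ := Submodule.mem_span_finset.1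
    (show t ^ n₀ • a ∈ Submodule.span A (G : Set M) from
      hspan ▸ Submodule.subset_span (Set.mem_iUnion₂.2 ⟨Q, Nat.le_add_right _ _, hfa⟩))
  let T : M → M := fun g => (DirectSum.decompose ℳ (c g • g) Q : M)
  have hfa' : t ^ n₀ • a = ∑ g ∈ G, T g := by
    conv_lhs => rw [← DirectSum.decompose_of_mem_same ℳ hfa, ← hc]
    rw [DirectSum.decompose_sum, DFinsupp.finsetSum_apply, AddSubmonoidClass.coe_finsetSum]
  have hT : ∀ g ∈ G, ∀ h : T g ∈ ℳ Q, sec ht Q (T g) h ∈ S := by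
    intro g hg h
    by_cases hle : ε g ≤ Q
    · have e : T g = GradedRing.proj 𝒜 (Q - ε g) (c g) • g := by
        simp only [T]
        rw [decompose_smul_of_mem (𝒜 := 𝒜) (ℳ := ℳ) (hεm g hg), if_pos hle]
      simp only [e]
      have hb : GradedRing.proj 𝒜 (Q - ε g) (c g) ∈ 𝒜 ((Q - ε g) • 1) := by
        rw [smul_eq_mul, mul_one]; exact SetLike.coe_mem _
      have key : sec ht Q (GradedRing.proj 𝒜 (Q - ε g) (c g) • g) (e ▸ h) =
          sc ht (Q - ε g) _ hb • sec ht (ε g) g (hεm g hg) := by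
        refine sect_ext (n := 0) fun x => ?_
        refine Eq.trans ?_ (smul_val 0 one_pos ht (Q - ε g) _ hb _ x).symm
        refine (sec_val ht Q _ (e ▸ h) x).trans (Eq.trans ?_ (congrArg (_ • ·) (sec_val ht (ε g) g (hεm g hg) x)).symm)
        rw [LocalizedModule.mk_smul_mk, LocalizedModule.mk_eq]
        exact ⟨1, by simp [Submonoid.smul_def, ← pow_add, Nat.sub_add_cancel hle]⟩
      rw [key]
      exact S.smul_mem _ (Submodule.subset_span ⟨⟨g, hg⟩, rfl⟩)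
    · have e : T g = 0 := by
        simp only [T]
        rw [decompose_smul_of_mem (𝒜 := 𝒜) (ℳ := ℳ) (hεm g hg), if_neg hle]
      simp only [e]
      rw [sec_zero]
      exact zero_mem _
  have hs' : s = sec ht Q (t ^ n₀ • a) hfa := by
    refine sect_ext (n := 0) fun x => (hs x).trans ?_
    refine Eq.trans ?_ (sec_val ht Q _ hfa x).symm
    rw [LocalizedModule.mk_eq]
    exact ⟨1, by simp [Q, Submonoid.smul_def, smul_smul, pow_add, mul_comm]⟩
  have hsum : ∀ (G' : Finset M), G' ⊆ G → ∀ h : ∑ g ∈ G', T g ∈ ℳ Q, sec ht Q (∑ g ∈ G', T g) h ∈ S := by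
    intro G'
    induction G' using Finset.induction with
    | empty => intro _ h; simp only [Finset.sum_empty]; rw [sec_zero]; exact zero_mem _
    | insert g G'' hg ih =>
      intro hsub h
      rw [Finset.insert_subset_iff] at hsub
      have h1 : T g ∈ ℳ Q := SetLike.coe_mem _
      have h2 : ∑ g ∈ G'', T g ∈ ℳ Q := sum_mem fun _ _ => SetLike.coe_mem _
      simp only [Finset.sum_insert hg]
      rw [sec_add ht Q _ _ h1 h2]
      exact add_mem (hT g hsub.1 h1) (ih hsub.2 h2)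
  rw [hs']
  simp only [hfa']
  exact hsum G subset_rfl _

end Groth.L18.GrM
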