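import Groth.Agent.L18.GrMod.QCoh
import Groth.Agent.L21.Mod.Stalks

/-!
# `M ↦ M(n)~` on morphisms: injectivity, surjectivity and exactness
-/

set_option autoImplicit false
universe u

open CategoryTheory CategoryTheory.Limits AlgebraicGeometry TopologicalSpace Opposite

noncomputable section

namespace Groth.L18.GrM

variable {A σ : Type u} [CommRing A] [SetLike σ A] [AddSubgroupClass σ A] {𝒜 : ℕ → σ} [GradedRing 𝒜]
variable {M τ : Type u} [AddCommGroup M] [Module A M] [SetLike τ M] [AddSubgroupClass τ M]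
  {ℳ : ℕ → τ} [DirectSum.Decomposition ℳ] [SetLike.GradedSMul 𝒜 ℳ] {n : ℤ}
variable {N τ' : Type u} [AddCommGroup N] [Module A N] [SetLike τ' N] [AddSubgroupClass τ' N]
  {𝒩 : ℕ → τ'} [DirectSum.Decomposition 𝒩] [SetLike.GradedSMul 𝒜 𝒩]

/-- A homogeneous element killing a homogeneous element. -/
theorem exists_hom_kill {x : ProjectiveSpectrum 𝒜} {i : ℕ} {z : M} (hz : z ∈ ℳ i) {c : A}
    (hc : c ∉ x.asHomogeneousIdeal) (h : c • z = 0) :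
    ∃ (k : ℕ) (c' : A), c' ∈ 𝒜 k ∧ c' ∉ x.asHomogeneousIdeal ∧ c' • z = 0 := by
  obtain ⟨k, hk⟩ := exists_hom_notMem hc
  refine ⟨k, GradedRing.proj 𝒜 k c, SetLike.coe_mem _, hk, ?_⟩
  have := decompose_smul_of_mem (𝒜 := 𝒜) (ℳ := ℳ) hz c (k + i)
  rw [h, if_pos (Nat.le_add_left _ _), Nat.add_sub_cancel] at this
  simpa using this.symm

/-- Sections are locally fractions of large degree. -/
theorem exists_rep {V : Opens (ProjectiveSpectrum.top 𝒜)} (t : GrMod.sect 𝒜 ℳ n (op V)) (x : V) (n₀ : ℕ) :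
    ∃ (W : Opens (ProjectiveSpectrum.top 𝒜)) (iW : W ⟶ V), x.1 ∈ W ∧
      ∃ (i j : ℕ) (m : ℳ i) (s : 𝒜 j) (nin : ∀ y : W, (s : A) ∉ y.1.asHomogeneousIdeal),
        n₀ ≤ i ∧ (i : ℤ) = j + n ∧ ∀ y : W, (t.1 (iW y)).1 = LocalizedModule.mk (m : M) ⟨(s : A), nin y⟩ := by
  obtain ⟨V', hxV, iV, i, j, m, s, nin, hdeg, hw⟩ := t.2 x
  obtain ⟨d, g, hd, hg, hgx⟩ := exists_hom_pos (x.1 : ProjectiveSpectrum 𝒜)
  let W : Opens (ProjectiveSpectrum.top 𝒜) := V' ⊓ ProjectiveSpectrum.basicOpen 𝒜 g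
  have hW : ∀ y : W, g ∉ y.1.asHomogeneousIdeal := fun y => (ProjectiveSpectrum.mem_basicOpen 𝒜 _ _).1 y.2.2
  refine ⟨W, Opens.infLELeft _ _ ≫ iV, ⟨hxV, (ProjectiveSpectrum.mem_basicOpen 𝒜 _ _).2 hgx⟩, ?_⟩
  by_cases hm : (m : M) = 0
  · obtain ⟨P, -, hPn⟩ := exists_pow_degree hd n
    have hle : (n₀ : ℤ) ≤ ((((P + n₀) * d : ℕ) : ℕ) : ℤ) + n := by
      have h1 : n₀ ≤ n₀ * d := Nat.le_mul_of_pos_right _ hd
      have h2 : (P + n₀) * d = P * d + n₀ * d := add_mul _ _ _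
      omega
    refine ⟨(((((P + n₀) * d : ℕ) : ℕ) : ℤ) + n).toNat, (P + n₀) * d, ⟨0, zero_mem _⟩,
      ⟨g ^ (P + n₀), by simpa using SetLike.pow_mem_graded (P + n₀) hg⟩, fun y => notMem_pow (hW y) _,
      by omega, Int.toNat_of_nonneg (by omega), fun y => (hw ⟨y.1, y.2.1⟩).trans ?_⟩
    rw [hm, LocalizedModule.zero_mk, LocalizedModule.zero_mk]
  · refine ⟨n₀ * d + i, n₀ * d + j,
      ⟨g ^ n₀ • (m : M), SetLike.GradedSMul.smul_mem (by simpa using SetLike.pow_mem_graded n₀ hg) m.2⟩,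
      ⟨g ^ n₀ * (s : A), SetLike.mul_mem_graded (by simpa using SetLike.pow_mem_graded n₀ hg) s.2⟩,
      fun y => notMem_mul (notMem_pow (hW y) _) (nin ⟨y.1, y.2.1⟩),
      le_add_right (Nat.le_mul_of_pos_right _ hd), by have := hdeg.resolve_right hm; push_cast; omega,
      fun y => (hw ⟨y.1, y.2.1⟩).trans ?_⟩
    rw [LocalizedModule.mk_eq]
    refine ⟨1, ?_⟩
    simp only [one_smul, Submonoid.smul_def, smul_smul, mul_comm]

variable (u : M →ₗ[A] N) (hu : ∀ (i : ℕ) (m : M), m ∈ ℳ i → u m ∈ 𝒩 i)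

omit [AddSubgroupClass σ A] [GradedRing 𝒜] [SetLike.GradedSMul 𝒜 ℳ] [SetLike.GradedSMul 𝒜 𝒩] in
include hu in
/-- A degree-preserving map commutes with taking components. -/
theorem component_map (q : M) (e : ℕ) :
    u (DirectSum.decompose ℳ q e : M) = (DirectSum.decompose 𝒩 (u q) e : N) := by
  classical
  induction q using DirectSum.Decomposition.inductionOn ℳ with
  | zero => simp
  | homogeneous x =>
    rename_i k
    rcases eq_or_ne k e with rfl | h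
    · rw [DirectSum.decompose_of_mem_same ℳ x.2, DirectSum.decompose_of_mem_same 𝒩 (hu k _ x.2)]
    · rw [DirectSum.decompose_of_mem_ne ℳ x.2 h, DirectSum.decompose_of_mem_ne 𝒩 (hu k _ x.2) h, map_zero]
  | add a b ha hb =>
    simp only [DirectSum.decompose_add, DirectSum.add_apply, AddMemClass.coe_add, map_add, ha, hb]

open Limits in
theorem isZero_of_eventually (h : ∃ n₀ : ℕ, ∀ k : ℕ, n₀ ≤ k → ∀ z ∈ ℳ k, z = (0 : M)) :
    IsZero (GrMod.tilde 𝒜 ℳ n) := by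
  classical
  obtain ⟨n₀, hn₀⟩ := h
  refine isZero_of_nilpotent fun z d f hd hf => ⟨n₀, ?_⟩
  rw [← DirectSum.sum_support_decompose ℳ z, Finset.smul_sum]
  refine Finset.sum_eq_zero fun l _ => ?_
  refine hn₀ (n₀ • d + l) (by simp only [smul_eq_mul]; exact le_add_right (Nat.le_mul_of_pos_right _ hd)) _ ?_
  exact SetLike.GradedSMul.smul_mem (SetLike.pow_mem_graded _ hf) (SetLike.coe_mem (DirectSum.decompose ℳ z l))

include hu in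
theorem mono_map (hinj : ∃ n₀ : ℕ, ∀ k : ℕ, n₀ ≤ k → ∀ m ∈ ℳ k, u m = 0 → m = 0) :
    Mono (GrMod.map 𝒜 (ℳ := ℳ) (𝒩 := 𝒩) u hu n) := by
  obtain ⟨n₀, hn₀⟩ := hinj
  have key : ∀ (V : Opens (ProjectiveSpectrum.top 𝒜)) (t : GrMod.sect 𝒜 ℳ n (op V)),
      GrMod.mapApp u hu n (op V) t = 0 → t = 0 := by
    intro V t ht
    refine sect_ext fun x => ?_
    obtain ⟨W, iW, hxW, i, j, m, s, nin, hi, hij, hw⟩ := exists_rep t x n₀
    have h0 : LocalizedModule.mk (u (m : M)) ⟨(s : A), nin ⟨x.1, hxW⟩⟩ =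
        (0 : GrMod.LocMod 𝒜 (M := N) x.1) := by
      rw [← GrMod.locMap_mk, ← hw ⟨x.1, hxW⟩]
      exact congrArg (fun w : GrMod.sect 𝒜 𝒩 n (op V) => (w.1 x).1) ht
    obtain ⟨c, hc, hcu⟩ := (mk_eq_zero_iff _).1 h0
    obtain ⟨k, c', hc', hcx, hcu'⟩ := exists_hom_kill (hu i _ m.2) hc hcu
    exact (hw ⟨x.1, hxW⟩).trans ((mk_eq_zero_iff _).2 ⟨c', hcx, hn₀ (k + i) (by omega) _
      (SetLike.GradedSMul.smul_mem hc' m.2) (by rw [map_smul, hcu'])⟩)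
  refine Preadditive.mono_of_cancel_zero _ fun {P} g hg => Scheme.Modules.hom_ext _ _ fun V => ?_
  ext s
  exact key V (g.app V s) (congrArg (fun φ : P ⟶ _ => φ.app V s) hg)

include hu in
theorem epi_map (hsurj : ∃ n₀ : ℕ, ∀ k : ℕ, n₀ ≤ k → ∀ m' ∈ 𝒩 k, ∃ m ∈ ℳ k, u m = m') :
    Epi (GrMod.map 𝒜 (ℳ := ℳ) (𝒩 := 𝒩) u hu n) := by
  obtain ⟨n₀, hn₀⟩ := hsurj
  rw [Groth.L21.Mod.epi_iff_stalk_surjective]
  intro x z
  obtain ⟨V, hxV, t, rfl⟩ := TopCat.Presheaf.exists_germ_eq (GrMod.tilde 𝒜 𝒩 n).presheaf z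
  obtain ⟨W, iW, hxW, i, j, m', s, nin, hi, hij, hw⟩ := exists_rep (ℳ := 𝒩) t ⟨x, hxV⟩ n₀
  obtain ⟨m, hm, hum⟩ := hn₀ i hi _ m'.2
  let g : Γ(GrMod.tilde 𝒜 ℳ n, W) := gen (⟨m, hm⟩ : ℳ i) s hij W nin
  refine ⟨(GrMod.tilde 𝒜 ℳ n).presheaf.germ W x hxW g, ?_⟩
  refine (Groth.L21.Mod.stalkF_map_germ _ W x hxW g).trans ?_
  have e : (GrMod.map 𝒜 (ℳ := ℳ) (𝒩 := 𝒩) u hu n).app W g = (GrMod.tilde 𝒜 𝒩 n).presheaf.map iW.op t :=
    sect_ext (n := n) fun y => by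
      show GrMod.locMap u y.1 (LocalizedModule.mk m ⟨(s : A), nin y⟩) = (t.1 (iW y)).1
      rw [GrMod.locMap_mk, hum, hw y]
  rw [e]
  exact TopCat.Presheaf.germ_res_apply _ iW x hxW t

variable {L τ'' : Type u} [AddCommGroup L] [Module A L] [SetLike τ'' L] [AddSubgroupClass τ'' L]
  {ℒ : ℕ → τ''} [DirectSum.Decomposition ℒ] [SetLike.GradedSMul 𝒜 ℒ]

include hu in
theorem exact_map (v : N →ₗ[A] L) (hv : ∀ (i : ℕ) (m : N), m ∈ 𝒩 i → v m ∈ ℒ i) (hex : Function.Exact u v)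
    (w : GrMod.map 𝒜 (ℳ := ℳ) (𝒩 := 𝒩) u hu n ≫ GrMod.map 𝒜 (ℳ := 𝒩) (𝒩 := ℒ) v hv n = 0) :
    (ShortComplex.mk _ _ w).Exact := by
  classical
  rw [Groth.L21.Mod.exact_iff_stalk]
  intro x
  rw [ShortComplex.ab_exact_iff]
  intro z hz
  obtain ⟨V, hxV, t, rfl⟩ := TopCat.Presheaf.exists_germ_eq (GrMod.tilde 𝒜 𝒩 n).presheaf z
  change (Groth.L21.Mod.stalkF (Proj 𝒜) x).map (GrMod.map 𝒜 (ℳ := 𝒩) (𝒩 := ℒ) v hv n) _ = 0 at hz
  rw [Groth.L21.Mod.stalkF_map_germ] at hz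
  obtain ⟨V', hxV', i₁, i₂, he⟩ := TopCat.Presheaf.germ_eq (GrMod.tilde 𝒜 ℒ n).presheaf x hxV hxV _
    (0 : Γ(GrMod.tilde 𝒜 ℒ n, V)) (hz.trans (map_zero _).symm)
  rw [map_zero] at he
  obtain ⟨W, iW, hxW, i, j, m, s, nin, -, hij, hw⟩ := exists_rep (ℳ := 𝒩) t ⟨x, hxV⟩ 0
  have h0 : LocalizedModule.mk (v (m : N)) ⟨(s : A), nin ⟨x, hxW⟩⟩ =
      (0 : GrMod.LocMod 𝒜 (M := L) x) := by
    rw [← GrMod.locMap_mk, ← hw ⟨x, hxW⟩]
    exact congrArg (fun r : GrMod.sect 𝒜 ℒ n (op V') => (r.1 ⟨x, hxV'⟩).1) he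
  obtain ⟨c, hc, hcv⟩ := (mk_eq_zero_iff _).1 h0
  obtain ⟨k, c', hc', hcx, hcv'⟩ := exists_hom_kill (hv i _ m.2) hc hcv
  obtain ⟨q, hq⟩ := (hex (c' • (m : N))).1 (by rw [map_smul, hcv'])
  let q' : M := DirectSum.decompose ℳ q (k + i)
  have hq' : u q' = c' • (m : N) := by
    rw [component_map u hu, hq, DirectSum.decompose_of_mem_same 𝒩 (show c' • (m : N) ∈ 𝒩 (k + i) from SetLike.GradedSMul.smul_mem hc' m.2)]
  let W' : Opens (ProjectiveSpectrum.top 𝒜) := W ⊓ ProjectiveSpectrum.basicOpen 𝒜 c'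
  have hW' : x ∈ W' := ⟨hxW, (ProjectiveSpectrum.mem_basicOpen 𝒜 _ _).2 hcx⟩
  have nin' : ∀ y : W', c' * (s : A) ∉ y.1.asHomogeneousIdeal := fun y =>
    notMem_mul ((ProjectiveSpectrum.mem_basicOpen 𝒜 _ _).1 y.2.2) (nin ⟨y.1, y.2.1⟩)
  let g : Γ(GrMod.tilde 𝒜 ℳ n, W') := gen (⟨q', SetLike.coe_mem _⟩ : ℳ (k + i))
    (⟨c' * (s : A), SetLike.mul_mem_graded hc' s.2⟩ : 𝒜 (k + j)) (by push_cast; omega) W' nin'
  refine ⟨(GrMod.tilde 𝒜 ℳ n).presheaf.germ W' x hW' g, ?_⟩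
  refine (Groth.L21.Mod.stalkF_map_germ _ W' x hW' g).trans ?_
  have e : (GrMod.map 𝒜 (ℳ := ℳ) (𝒩 := 𝒩) u hu n).app W' g =
      (GrMod.tilde 𝒜 𝒩 n).presheaf.map (Opens.infLELeft W _ ≫ iW).op t :=
    sect_ext (n := n) fun y => by
      show GrMod.locMap u y.1 (LocalizedModule.mk q' ⟨c' * (s : A), nin' y⟩) = (t.1 (iW ⟨y.1, y.2.1⟩)).1
      rw [GrMod.locMap_mk, hq', hw ⟨y.1, y.2.1⟩, LocalizedModule.mk_eq]
      refine ⟨1, ?_⟩
      simp only [one_smul, Submonoid.smul_def, smul_smul, mul_comm]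
  rw [e]
  exact TopCat.Presheaf.germ_res_apply _ _ x hW' t

end Groth.L18.GrM
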