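import Groth.Agent.L18.GrMod.QCoh
import Groth.Agent.L18.GrMod.TwistFrame

/-!
# Multiplication `M(m)~ × O(n) → M(m+n)~`
-/

set_option autoImplicit false
universe u

open CategoryTheory AlgebraicGeometry TopologicalSpace Opposite

noncomputable section

namespace Groth.L18.GrM

variable {A σ : Type u} [CommRing A] [SetLike σ A] [AddSubgroupClass σ A] {𝒜 : ℕ → σ} [GradedRing 𝒜]
variable {M τ : Type u} [AddCommGroup M] [Module A M] [SetLike τ M] [AddSubgroupClass τ M]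
  {ℳ : ℕ → τ} [DirectSum.Decomposition ℳ] [SetLike.GradedSMul 𝒜 ℳ] {m n k : ℤ}

lemma smul_mem_tildeAt (hk : k = m + n) {x : ProjectiveSpectrum 𝒜} {c : GrTwist.Loc 𝒜 x}
    (hc : c ∈ GrTwist.twistAt 𝒜 n x) {q : GrMod.LocMod 𝒜 (M := M) x} (hq : q ∈ GrMod.tildeAt 𝒜 ℳ m x) :
    c • q ∈ GrMod.tildeAt 𝒜 ℳ k x := by
  induction hc using Submodule.span_induction with
  | mem c hc =>
    induction hq using Submodule.span_induction with
    | mem q hq =>
      obtain ⟨i, j, a, s, hs, hd, rfl⟩ := hc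
      obtain ⟨i', j', a', s', hs', hd', rfl⟩ := hq
      refine Submodule.subset_span ⟨i + i', j + j', ⟨a.1 • a'.1, SetLike.GradedSMul.smul_mem a.2 a'.2⟩,
        ⟨s.1 * s'.1, SetLike.mul_mem_graded s.2 s'.2⟩,
        fun h => (x.isPrime.mem_or_mem h).elim hs hs', by push_cast; omega, ?_⟩
      rw [LocalizedModule.mk_smul_mk]; rfl
    | zero => rw [smul_zero]; exact zero_mem _
    | add _ _ _ _ h h' => rw [smul_add]; exact add_mem h h'
    | smul r q _ h => rw [GrMod.a0_smul_def, smul_comm]; exact Submodule.smul_mem _ r h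
  | zero => rw [zero_smul]; exact zero_mem _
  | add _ _ _ _ h h' => rw [add_smul]; exact add_mem h h'
  | smul r c _ h =>
    rw [Algebra.smul_def, HomogeneousLocalization.algebraMap_apply, mul_smul]
    exact Submodule.smul_mem _ r h

/-- Product of a section of `M(m)~` and one of `O(n)`. -/
def mulT (hk : k = m + n) {U : (Opens (ProjectiveSpectrum.top 𝒜))ᵒᵖ} (f : GrMod.sect 𝒜 ℳ m U)
    (g : GrTwist.sectN (𝒜 := 𝒜) n U) : GrMod.sect 𝒜 ℳ k U :=
  ⟨fun x => ⟨(g.1 x).1 • (f.1 x).1, smul_mem_tildeAt hk (g.1 x).2 (f.1 x).2⟩, fun x => by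
    obtain ⟨Va, ma, ia, i, j, a, s, nina, ca, wa⟩ := f.2 x
    obtain ⟨Vb, mb, ib, i', j', a', s', ninb, cb, wb⟩ := g.2 x
    refine ⟨Va ⊓ Vb, ⟨ma, mb⟩, Opens.infLELeft _ _ ≫ ia, i' + i, j' + j,
      ⟨a'.1 • a.1, SetLike.GradedSMul.smul_mem a'.2 a.2⟩, ⟨s'.1 * s.1, SetLike.mul_mem_graded s'.2 s.2⟩,
      fun y h => (y.1.isPrime.mem_or_mem h).elim (ninb ⟨y.1, y.2.2⟩) (nina ⟨y.1, y.2.1⟩), ?_, fun y => ?_⟩
    · rcases ca with ha | ha
      · rcases cb with hb | hb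
        · exact Or.inl (by push_cast; omega)
        · exact Or.inr (show a'.1 • a.1 = 0 by rw [hb, zero_smul])
      · exact Or.inr (show a'.1 • a.1 = 0 by rw [ha, smul_zero])
    · have e1 := wa ⟨y.1, y.2.1⟩
      have e2 := wb ⟨y.1, y.2.2⟩
      dsimp only at e1 e2 ⊢
      erw [e1, e2, LocalizedModule.mk_smul_mk]
      rfl⟩

section Lemmas

variable (hk : k = m + n) {U : (Opens (ProjectiveSpectrum.top 𝒜))ᵒᵖ}

lemma mulT_apply (f : GrMod.sect 𝒜 ℳ m U) (g : GrTwist.sectN (𝒜 := 𝒜) n U) (x : U.unop) :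
    ((mulT hk f g).1 x).1 = (g.1 x).1 • (f.1 x).1 := rfl

lemma mulT_add₁ (f f' : GrMod.sect 𝒜 ℳ m U) (g : GrTwist.sectN (𝒜 := 𝒜) n U) :
    mulT hk (f + f') g = mulT hk f g + mulT hk f' g :=
  sect_ext fun x => smul_add (g.1 x).1 (f.1 x).1 (f'.1 x).1

lemma mulT_add₂ (f : GrMod.sect 𝒜 ℳ m U) (g g' : GrTwist.sectN (𝒜 := 𝒜) n U) :
    mulT hk f (g + g') = mulT hk f g + mulT hk f g' :=
  sect_ext fun x => add_smul (g.1 x).1 (g'.1 x).1 (f.1 x).1

lemma mulT_smul₁ (c : GrTwist.O U) (f : GrMod.sect 𝒜 ℳ m U) (g : GrTwist.sectN (𝒜 := 𝒜) n U) :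
    mulT hk (c • f) g = c • mulT hk f g :=
  sect_ext fun x => (congrArg ((g.1 x).1 • ·) (GrMod.coe_smul_val m x.1 (c.1 x) (f.1 x))).trans
    ((smul_comm (g.1 x).1 (c.1 x).val (f.1 x).1).trans (GrMod.coe_smul_val k x.1 (c.1 x) ((mulT hk f g).1 x)).symm)

lemma mulT_smul₂ (c : GrTwist.O U) (f : GrMod.sect 𝒜 ℳ m U) (g : GrTwist.sectN (𝒜 := 𝒜) n U) :
    mulT hk f (c • g) = c • mulT hk f g :=
  sect_ext fun x => (congrArg (· • (f.1 x).1) (GrTwist.coe_smul_val n x.1 (c.1 x) (g.1 x))).trans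
    ((mul_smul (c.1 x).val (g.1 x).1 (f.1 x).1).trans (GrMod.coe_smul_val k x.1 (c.1 x) ((mulT hk f g).1 x)).symm)

end Lemmas


omit [AddSubgroupClass σ A] [GradedRing 𝒜] in
lemma mk_mul_mk_swap [AddSubgroupClass σ A] [GradedRing 𝒜] (a b : A) (x : ProjectiveSpectrum 𝒜)
    (ha : a ∉ x.asHomogeneousIdeal) (hb : b ∉ x.asHomogeneousIdeal) :
    (Localization.mk a ⟨b, hb⟩ : GrTwist.Loc 𝒜 x) * Localization.mk b ⟨a, ha⟩ = 1 := by
  rw [Localization.mk_mul, ← Localization.mk_one, Localization.mk_eq_mk_iff, Localization.r_iff_exists]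
  exact ⟨1, by simp only [Submonoid.coe_mul, OneMemClass.coe_one]; ring⟩

end Groth.L18.GrM
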