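import Groth.Agent.L18.GrMod.Map
import Groth.Agent.L18.RelTilde.Ring

/-!
# `M(n)~` and restriction of scalars along a graded homomorphism
-/

set_option autoImplicit false
universe u

open CategoryTheory CategoryTheory.Limits AlgebraicGeometry TopologicalSpace Opposite
open scoped HomogeneousIdeal

noncomputable section

namespace Groth.L18.GrM

variable {A σ : Type u} [CommRing A] [SetLike σ A] [AddSubgroupClass σ A] {𝒜 : ℕ → σ} [GradedRing 𝒜]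

/-- Basic opens of positive degree form a neighbourhood basis. -/
theorem exists_basicOpen_le {V : Opens (ProjectiveSpectrum.top 𝒜)} {x : ProjectiveSpectrum 𝒜} (hx : x ∈ V) :
    ∃ (d : ℕ) (f : A), 0 < d ∧ f ∈ 𝒜 d ∧ f ∉ x.asHomogeneousIdeal ∧ ProjectiveSpectrum.basicOpen 𝒜 f ≤ V := by
  obtain ⟨_, ⟨g, rfl⟩, hxg, hgV⟩ :=
    (ProjectiveSpectrum.isTopologicalBasis_basic_opens 𝒜).exists_subset_of_mem_open hx V.2
  obtain ⟨k, hk⟩ := exists_hom_notMem ((ProjectiveSpectrum.mem_basicOpen 𝒜 g x).1 hxg)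
  obtain ⟨d, h, hd, hh, hhx⟩ := exists_hom_pos (x : ProjectiveSpectrum 𝒜)
  refine ⟨k + d, GradedRing.proj 𝒜 k g * h, Nat.add_pos_right _ hd, SetLike.mul_mem_graded (SetLike.coe_mem _) hh,
    notMem_mul hk hhx, fun y hy => hgV ((ProjectiveSpectrum.mem_basicOpen 𝒜 g y).2 fun hg => ?_)⟩
  exact (ProjectiveSpectrum.mem_basicOpen 𝒜 _ y).1 hy
    (y.asHomogeneousIdeal.toIdeal.mul_mem_right _ (y.asHomogeneousIdeal.isHomogeneous k hg))

/-- A map injective on sections and locally surjective is an isomorphism. -/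
theorem isIso_of_local {X : Scheme.{u}} {F G : X.Modules} (φ : F ⟶ G)
    (hinj : ∀ (V : X.Opens) (s : Γ(F, V)), φ.app V s = 0 → s = 0)
    (hsurj : ∀ (V : X.Opens) (x : X) (_ : x ∈ V) (t : Γ(G, V)),
      ∃ (W : X.Opens) (i : W ⟶ V) (_ : x ∈ W) (s : Γ(F, W)), φ.app W s = G.presheaf.map i.op t) : IsIso φ := by
  rw [Groth.L21.Mod.isIso_iff_stalk_bijective]
  refine fun x => ⟨(injective_iff_map_eq_zero _).2 fun z hz => ?_, fun z => ?_⟩
  · obtain ⟨V, hxV, s, rfl⟩ := TopCat.Presheaf.exists_germ_eq F.presheaf z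
    rw [Groth.L21.Mod.stalkF_map_germ] at hz
    obtain ⟨V', hxV', i₁, i₂, he⟩ := TopCat.Presheaf.germ_eq G.presheaf x hxV hxV _
      (0 : Γ(G, V)) (hz.trans (map_zero _).symm)
    rw [map_zero] at he
    have h0 := hinj V' (F.presheaf.map i₁.op s)
      ((ConcreteCategory.congr_hom (φ.mapPresheaf.naturality i₁.op) s).trans he)
    exact (TopCat.Presheaf.germ_res_apply F.presheaf i₁ x hxV' s).symm.trans ((congrArg _ h0).trans (map_zero _))
  · obtain ⟨V, hxV, t, rfl⟩ := TopCat.Presheaf.exists_germ_eq G.presheaf z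
    obtain ⟨W, i, hxW, s, hs⟩ := hsurj V x hxV t
    refine ⟨F.presheaf.germ W x hxW s, ?_⟩
    refine (Groth.L21.Mod.stalkF_map_germ φ W x hxW s).trans ?_
    rw [hs]
    exact TopCat.Presheaf.germ_res_apply _ i x hxW t

variable {B σ' : Type u} [CommRing B] [SetLike σ' B] [AddSubgroupClass σ' B] {ℬ : ℕ → σ'} [GradedRing ℬ]
variable {M τ : Type u} [AddCommGroup M] [Module A M] [SetLike τ M] [AddSubgroupClass τ M]
  {ℳ : ℕ → τ} [DirectSum.Decomposition ℳ] [SetLike.GradedSMul 𝒜 ℳ]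
variable {N τ' : Type u} [AddCommGroup N] [Module B N] [SetLike τ' N] [AddSubgroupClass τ' N]
  {𝒩 : ℕ → τ'} [DirectSum.Decomposition 𝒩] [SetLike.GradedSMul ℬ 𝒩]
variable (ψ : 𝒜 →+*ᵍ ℬ) (hψ : ℬ₊ ≤ (𝒜₊).map ψ)

theorem isIso_comap_of_bijective (v : M →ₛₗ[ψ.toRingHom] N) (hv : ∀ (i : ℕ) (m : M), m ∈ ℳ i → v m ∈ 𝒩 i)
    (hbij : Function.Bijective v) (n : ℤ) : IsIso (GrMod.comap ψ hψ (ℳ := ℳ) (𝒩 := 𝒩) v hv n) := by
  classical
  have hmemA : ∀ f : A, ∀ x, x ∈ ProjectiveSpectrum.basicOpen 𝒜 f ↔ f ∉ x.asHomogeneousIdeal := fun f x =>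
    ProjectiveSpectrum.mem_basicOpen 𝒜 f x
  have hmemB : ∀ (f : A) y, y ∈ (ProjectiveSpectrum.basicOpen 𝒜 f).comap
      ⟨ProjectiveSpectrum.comap ψ hψ, (Proj.map ψ hψ).continuous⟩ ↔ ψ f ∉ y.asHomogeneousIdeal := fun f y =>
    ProjectiveSpectrum.mem_basicOpen 𝒜 f (ProjectiveSpectrum.comap ψ hψ y)
  refine isIso_of_local _ (fun V s hs => ?_) fun V x hxV t => ?_
  · refine sect_ext (n := n) fun x => ?_
    obtain ⟨d, f, hd, hf, hfx, hfV⟩ := exists_basicOpen_le (𝒜 := 𝒜) x.2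
    obtain ⟨K, m, a, ha, hm, hsa⟩ := exists_eq_mk hd hf (hmemA f)
      (GrMod.res 𝒜 ℳ n (homOfLE hfV).op (show GrMod.sect 𝒜 ℳ n (op V) from s))
    obtain ⟨N', hN⟩ := pow_smul_eq_zero hd (ψ.map_mem hf) K (⟨v a, hv m a ha⟩ : 𝒩 m) fun y hy => by
      have hy' : ψ f ∉ y.1.asHomogeneousIdeal := (ProjectiveSpectrum.mem_basicOpen ℬ _ _).1 y.2
      have hyD : ProjectiveSpectrum.comap ψ hψ y.1 ∈ ProjectiveSpectrum.basicOpen 𝒜 f := (hmemB f y.1).2 hy'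
      refine Eq.trans ?_ (congrArg (fun r : GrMod.sect ℬ 𝒩 n (op (Proj.map ψ hψ ⁻¹ᵁ V)) =>
        (r.1 ⟨y.1, hfV hyD⟩).1) hs)
      refine Eq.trans ?_ (congrArg (GrMod.locModMap ψ hψ v y.1) (hsa ⟨_, hyD⟩)).symm
      rw [GrMod.locModMap_mk]
      congr 1
      exact Subtype.ext (map_pow ψ f K).symm
    have hNa : f ^ N' • a = 0 := hbij.1 (by
      rw [LinearMap.map_smulₛₗ, map_zero, show ψ.toRingHom (f ^ N') = ψ f ^ N' from map_pow ψ f N']
      exact hN)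
    exact (hsa ⟨x.1, (hmemA f x.1).2 hfx⟩).trans ((mk_eq_zero_iff _).2 ⟨f ^ N', notMem_pow hfx N', hNa⟩)
  · obtain ⟨d, f, hd, hf, hfx, hfV⟩ := exists_basicOpen_le (𝒜 := 𝒜) hxV
    have hle : (ProjectiveSpectrum.basicOpen 𝒜 f).comap
        ⟨ProjectiveSpectrum.comap ψ hψ, (Proj.map ψ hψ).continuous⟩ ≤ Proj.map ψ hψ ⁻¹ᵁ V := fun y hy => hfV hy
    obtain ⟨K, m, b, hb, hm, htb⟩ := exists_eq_mk hd (ψ.map_mem hf) (hmemB f)
      (GrMod.res ℬ 𝒩 n (homOfLE hle).op (show GrMod.sect ℬ 𝒩 n (op (Proj.map ψ hψ ⁻¹ᵁ V)) from t))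
    obtain ⟨a₀, ha₀⟩ := hbij.2 b
    let a : M := DirectSum.decompose ℳ a₀ m
    have ha : v a = b := by
      rw [Groth.L18.RelTilde.map_component v hv, ha₀, DirectSum.decompose_of_mem_same 𝒩 hb]
    refine ⟨ProjectiveSpectrum.basicOpen 𝒜 f, homOfLE hfV, (hmemA f x).2 hfx,
      gen (⟨a, SetLike.coe_mem _⟩ : ℳ m) (⟨f ^ K, SetLike.pow_mem_graded K hf⟩ : 𝒜 (K • d))
        (by simpa using hm) _ fun y => notMem_pow ((hmemA f y.1).1 y.2) K, sect_ext (n := n) fun y => ?_⟩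
    refine Eq.trans ?_ (htb y).symm
    show GrMod.locModMap ψ hψ v y.1 (LocalizedModule.mk a ⟨f ^ K, _⟩) = _
    rw [GrMod.locModMap_mk]
    simp only [ha]
    congr 1
    exact Subtype.ext (map_pow ψ f K)

end Groth.L18.GrM
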